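import Mathlib
import Cfsg.Prelude.Def_CaseTheorems
import Cfsg.Agent.Lib.Cores.Basic
import Cfsg.Agent.Lib.Involutions.Basic
import Cfsg.Agent.Lib.Involutions.FusionTransfer
import Cfsg.Agent.Lib.Involutions.ThompsonTransfer
import Cfsg.Agent.Lib.Transfer.NormalPComplement

/-!
# Odd cores of subgroups and local transfer lemmas inside an ambient group
-/

set_option autoImplicit false
set_option linter.style.haveILetI false

namespace Cfsg.Agent.StronglyClosedFour

open Subgroup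

variable {G : Type*} [Group G]

/-- The odd core of a subgroup, as a subgroup of the ambient group. -/
def core (K : Subgroup G) : Subgroup G := (Cfsg.oddCore ↥K).map K.subtype

theorem core_le (K : Subgroup G) : core K ≤ K := map_subtype_le _

theorem core_odd [Finite G] (K : Subgroup G) : Odd (Nat.card (core K)) := by
  rw [core, card_map_of_injective (subtype_injective _)]
  exact Cores.oddCore_odd

theorem le_normalizer_core (K : Subgroup G) : K ≤ normalizer (core K : Set G) := by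
  refine le_normalizer_iff.2 fun k hk x hx => ?_
  obtain ⟨y, hy, rfl⟩ := hx
  haveI : (Cfsg.oddCore ↥K).Normal := by infer_instance
  exact ⟨(⟨k, hk⟩ : K) * y * (⟨k, hk⟩ : K)⁻¹, Normal.conj_mem inferInstance y hy _, rfl⟩

/-- An odd subgroup of `K` normalised by `K` lies in the odd core. -/
theorem le_core [Finite G] {X K : Subgroup G} (hXK : X ≤ K) (hn : K ≤ normalizer (X : Set G))
    (ho : Odd (Nat.card X)) : X ≤ core K := by
  haveI : (X.subgroupOf K).Normal := normal_subgroupOf_of_le_normalizer hn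
  have h : X.subgroupOf K ≤ Cfsg.oddCore ↥K := Cores.le_oddCore (by
    rw [Nat.card_congr (subgroupOfEquivOfLe hXK).toEquiv]; exact ho)
  intro x hx
  exact ⟨⟨x, hXK hx⟩, h hx, rfl⟩

theorem core_le_core [Finite G] {K₀ K : Subgroup G} (hle : K₀ ≤ K)
    (hn : K ≤ normalizer (core K₀ : Set G)) : core K₀ ≤ core K :=
  le_core ((core_le K₀).trans hle) hn (core_odd K₀)

theorem conj_mem_core [Finite G] {K K' : Subgroup G} {g : G}
    (h : ∀ x, x ∈ K → g * x * g⁻¹ ∈ K') (h' : ∀ x, x ∈ K' → g⁻¹ * x * g ∈ K) {x : G}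
    (hx : x ∈ core K) : g * x * g⁻¹ ∈ core K' := by
  let X := (core K).map (MulAut.conj g).toMonoidHom
  have hX : ∀ y, y ∈ X ↔ g⁻¹ * y * g ∈ core K := fun y => Transfer.Fusion.mem_map_conj
  have hle : X ≤ core K' := le_core
    (fun y hy => by
      have := h _ (core_le K ((hX y).1 hy))
      rwa [show g * (g⁻¹ * y * g) * g⁻¹ = y by group] at this)
    (le_normalizer_iff.2 fun k hk y hy => by
      rw [hX] at hy ⊢
      have := le_normalizer_iff.1 (le_normalizer_core K) _ (h' k hk) _ hy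
      rwa [show g⁻¹ * (k * y * k⁻¹) * g = g⁻¹ * k * g * (g⁻¹ * y * g) * (g⁻¹ * k * g)⁻¹ by group])
    (by rw [Transfer.Fusion.card_map_conj]; exact core_odd K)
  exact hle ((hX _).2 (by rwa [show g⁻¹ * (g * x * g⁻¹) * g = x by group]))

/-- Whatever normalises `K` normalises its odd core. -/
theorem normalizer_le_normalizer_core [Finite G] (K : Subgroup G) :
    normalizer (K : Set G) ≤ normalizer (core K : Set G) :=
  le_normalizer_iff.2 fun g hg _ hx =>
    conj_mem_core (fun x hx => (mem_normalizer_iff.1 hg x).1 hx)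
      (fun x hx => (mem_normalizer_iff.1 hg _).2 (by rwa [show g * (g⁻¹ * x * g) * g⁻¹ = x by group]))
      hx

theorem odd_sup [Finite G] {X Y : Subgroup G} (hn : X ≤ normalizer (Y : Set G))
    (hX : Odd (Nat.card X)) (hY : Odd (Nat.card Y)) : Odd (Nat.card ↥(X ⊔ Y)) := by
  haveI : (Y.subgroupOf (X ⊔ Y)).Normal :=
    normal_subgroupOf_of_le_normalizer (sup_le hn Subgroup.le_normalizer)
  have h := Cores.card_sup_dvd_mul (X.subgroupOf (X ⊔ Y)) (Y.subgroupOf (X ⊔ Y))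
  rw [← subgroupOf_sup le_sup_left le_sup_right, subgroupOf_self,
    Nat.card_congr (subgroupOfEquivOfLe (le_sup_left : X ≤ X ⊔ Y)).toEquiv,
    Nat.card_congr (subgroupOfEquivOfLe (le_sup_right : Y ≤ X ⊔ Y)).toEquiv, card_top] at h
  exact (hX.mul hY).of_dvd_nat h

theorem eq_one_of_sq {x : G} (h : Odd (orderOf x)) (h2 : x * x = 1) : x = 1 :=
  orderOf_eq_one_iff.1 (Nat.eq_one_of_dvd_coprimes (Nat.coprime_two_right.2 h) dvd_rfl
    (orderOf_dvd_of_pow_eq_one (by rw [sq, h2])))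

theorem odd_orderOf_of_mem [Finite G] {X : Subgroup G} (hX : Odd (Nat.card X)) {x : G}
    (hx : x ∈ X) : Odd (orderOf x) :=
  hX.of_dvd_nat (X.orderOf_dvd_natCard hx)

theorem eq_one_of_two_group [Finite G] {X T : Subgroup G} (hX : Odd (Nat.card X))
    (hT : IsPGroup 2 T) {x : G} (hxX : x ∈ X) (hxT : x ∈ T) : x = 1 := by
  obtain ⟨k, hk⟩ := hT ⟨x, hxT⟩
  refine orderOf_eq_one_iff.1 (Nat.eq_one_of_dvd_coprimes
    (((odd_orderOf_of_mem hX hxX).coprime_two_right).pow_right k) dvd_rfl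
    (orderOf_dvd_of_pow_eq_one ?_))
  exact congrArg Subtype.val hk

/-- A 2-subgroup is conjugate into a subgroup of odd index. -/
theorem exists_conj_into [Finite G] {K T B : Subgroup G} (hB : IsPGroup 2 B) (hBK : B ≤ K)
    (hodd : Odd (T.relIndex K)) : ∃ k ∈ K, ∀ b ∈ B, k⁻¹ * b * k ∈ T := by
  haveI : Fact (Nat.Prime 2) := ⟨Nat.prime_two⟩
  have hB' : IsPGroup 2 (B.subgroupOf K) := hB.of_equiv (subgroupOfEquivOfLe hBK).symm
  have hndvd : ¬ 2 ∣ Nat.card (↥K ⧸ T.subgroupOf K) := by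
    show ¬ 2 ∣ (T.subgroupOf K).index
    have : T.relIndex K = (T.subgroupOf K).index := rfl
    rw [← this]
    have := Nat.odd_iff.1 hodd
    omega
  obtain ⟨c, hc⟩ := hB'.nonempty_fixed_point_of_prime_not_dvd_card (↥K ⧸ T.subgroupOf K) hndvd
  obtain ⟨k, rfl⟩ := QuotientGroup.mk_surjective c
  refine ⟨k, k.2, fun b hb => ?_⟩
  have he : (((⟨b, hBK hb⟩ : K) * k : K) : ↥K ⧸ T.subgroupOf K) = (k : ↥K ⧸ T.subgroupOf K) :=
    hc ⟨⟨b, hBK hb⟩, hb⟩
  rw [QuotientGroup.eq] at he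
  have := inv_mem (mem_subgroupOf.1 he)
  simpa [mul_assoc] using this

/-- An involution is conjugate into a subgroup of odd index. -/
theorem exists_conj_into_involution [Finite G] {K T : Subgroup G} {t : G} (ht : t * t = 1)
    (htK : t ∈ K) (hodd : Odd (T.relIndex K)) : ∃ k ∈ K, k⁻¹ * t * k ∈ T := by
  have hp : IsPGroup 2 (zpowers t) := fun x => ⟨1, by
    obtain ⟨n, hn⟩ := x.2
    apply Subtype.ext
    show (x : G) ^ 2 ^ 1 = 1
    simp only [← hn]
    rw [pow_one, ← zpow_natCast, ← zpow_mul, mul_comm, zpow_mul, zpow_natCast, sq, ht, one_zpow]⟩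
  obtain ⟨k, hk, h⟩ := exists_conj_into hp (zpowers_le.2 htK) hodd
  exact ⟨k, hk, h t (mem_zpowers t)⟩

/-- If every conjugate of `A` meeting the normaliser `N` of `A` is inside `A`, then `N` has odd
index in every subgroup containing `A`. -/
theorem odd_relIndex [Finite G] {A : Subgroup G} (hA : IsPGroup 2 A)
    (hclosed : ∀ g : G, ∀ u ∈ A, g * u * g⁻¹ ∈ normalizer (A : Set G) → g * u * g⁻¹ ∈ A)
    {K : Subgroup G} (hAK : A ≤ K) : Odd ((normalizer (A : Set G) ⊓ K).relIndex K) := by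
  haveI : Fact (Nat.Prime 2) := ⟨Nat.prime_two⟩
  set T := normalizer (A : Set G) ⊓ K with hT
  have hA' : IsPGroup 2 (A.subgroupOf K) := hA.of_equiv (subgroupOfEquivOfLe hAK).symm
  have h := hA'.card_modEq_card_fixedPoints (↥K ⧸ T.subgroupOf K)
  have hone : MulAction.fixedPoints (A.subgroupOf K) (↥K ⧸ T.subgroupOf K) =
      {((1 : K) : ↥K ⧸ T.subgroupOf K)} := by
    ext c
    obtain ⟨k, rfl⟩ := QuotientGroup.mk_surjective c
    rw [Set.mem_singleton_iff, MulAction.mem_fixedPoints, QuotientGroup.eq, mul_one,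
      mem_subgroupOf]
    constructor
    · intro hfix
      refine mem_inf.2 ⟨?_, (k⁻¹).2⟩
      refine mem_normalizer_fintype (fun u hu => ?_)
      have he : (((⟨u, hAK hu⟩ : K) * k : K) : ↥K ⧸ T.subgroupOf K) =
          (k : ↥K ⧸ T.subgroupOf K) := hfix ⟨⟨u, hAK hu⟩, hu⟩
      rw [QuotientGroup.eq] at he
      have h2 := inv_mem (mem_inf.1 (mem_subgroupOf.1 he)).1
      have h3 : ((k⁻¹ : K) : G) * u * ((k⁻¹ : K) : G)⁻¹ ∈ normalizer (A : Set G) := by
        simpa [mul_assoc] using h2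
      exact hclosed _ u hu h3
    · intro hk a
      show (((a : K) * k : K) : ↥K ⧸ T.subgroupOf K) = (k : ↥K ⧸ T.subgroupOf K)
      rw [QuotientGroup.eq, mem_subgroupOf]
      have hk' := inv_mem (mem_inf.1 hk).1
      rw [show ((k⁻¹ : K) : G)⁻¹ = (k : G) by simp] at hk'
      have h4 : (k : G)⁻¹ * ((a : K) : G)⁻¹ * k ∈ A :=
        (mem_normalizer_iff''.1 hk' _).1 (inv_mem a.2)
      refine mem_inf.2 ⟨?_, SetLike.coe_mem _⟩
      simpa [mul_assoc] using mul_mem (Subgroup.le_normalizer h4) (one_mem _)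
  have hc1 : Nat.card (MulAction.fixedPoints (A.subgroupOf K) (↥K ⧸ T.subgroupOf K)) = 1 := by
    rw [hone]; simp
  rw [hc1] at h
  have : T.relIndex K = Nat.card (↥K ⧸ T.subgroupOf K) := rfl
  rw [this, Nat.odd_iff]
  exact h

/-- The odd elements of a subgroup of 2-power index lie in it. -/
theorem odd_mem_of_index_two [Finite G] {K₀ K : Subgroup G} (hn : K ≤ normalizer (K₀ : Set G))
    {j : ℕ} (hidx : K₀.relIndex K = 2 ^ j) {x : G} (hx : Odd (orderOf x)) (hxK : x ∈ K) :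
    x ∈ K₀ := by
  haveI : (K₀.subgroupOf K).Normal := normal_subgroupOf_of_le_normalizer hn
  haveI : Fact (Nat.Prime 2) := ⟨Nat.prime_two⟩
  have h := Involutions.FusionTransfer.odd_mem (K := K₀.subgroupOf K) (p := 2) (k := j) hidx
    (g := ⟨x, hxK⟩) (by rw [Subgroup.orderOf_mk]; exact hx.coprime_two_right)
  exact h

/-- Burnside transfer inside a subgroup: if the normaliser of a Sylow 2-subgroup centralises it,
the subgroup is the product of its odd core and the Sylow subgroup. -/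
theorem burnside [Finite G] {K A : Subgroup G} (hA : IsPGroup 2 A) (hAK : A ≤ K)
    (hodd : Odd (A.relIndex K))
    (hcent : ∀ n ∈ K, n ∈ normalizer (A : Set G) → ∀ a ∈ A, n * a = a * n) :
    ∀ k ∈ K, ∃ o ∈ core K, ∃ a ∈ A, k = o * a := by
  haveI : Fact (Nat.Prime 2) := ⟨Nat.prime_two⟩
  have hA' : IsPGroup 2 (A.subgroupOf K) := hA.of_equiv (subgroupOfEquivOfLe hAK).symm
  have hnd : ¬ 2 ∣ (A.subgroupOf K).index := by
    show ¬ 2 ∣ A.relIndex K
    have := Nat.odd_iff.1 hodd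
    omega
  let P : Sylow 2 K := hA'.toSylow hnd
  have hP : (P : Subgroup K) = A.subgroupOf K := rfl
  have hle : normalizer (P : Set K) ≤ centralizer (P : Set K) := by
    intro n hn
    rw [mem_centralizer_iff]
    intro a ha
    have hn' : (n : G) ∈ normalizer (A : Set G) := by
      refine mem_normalizer_fintype fun u hu => ?_
      have := (mem_normalizer_iff.1 hn ⟨u, hAK hu⟩).1 hu
      exact this
    exact Subtype.ext (hcent n n.2 hn' _ ha).symm
  have hN := MonoidHom.ker_transferSylow_isComplement' P hle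
  set Q := (MonoidHom.transferSylow P hle).ker
  have hQodd : Odd (Nat.card Q) := by
    rw [← hN.index_eq_card, hP]
    exact hodd
  intro k hk
  have hk' : (⟨k, hk⟩ : K) ∈ Q ⊔ (P : Subgroup K) := by rw [hN.sup_eq_top]; exact mem_top _
  obtain ⟨q, hq, a, ha, he⟩ := mem_sup_of_normal_left.1 hk'
  exact ⟨q, ⟨q, Cores.le_oddCore hQodd hq, rfl⟩, a, ha, congrArg Subtype.val he.symm⟩

/-- A fusion invariant normal subgroup of a Sylow 2-subgroup of `K` is cut out by a subgroup of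
`K` normal in `K`. -/
theorem transfer [Finite G] {K T M : Subgroup G} (hT : IsPGroup 2 T) (hTK : T ≤ K)
    (hodd : Odd (T.relIndex K)) (hMT : M ≤ T) (hMn : ∀ t ∈ T, ∀ m ∈ M, t * m * t⁻¹ ∈ M)
    (hfus : ∀ a ∈ T, ∀ b ∈ T, ∀ g ∈ K, g * a * g⁻¹ = b → a * b⁻¹ ∈ M) :
    ∃ K₀ : Subgroup G, K₀ ≤ K ∧ K ≤ normalizer (K₀ : Set G) ∧ (∀ t ∈ T, (t ∈ K₀ ↔ t ∈ M)) ∧
      M ≤ K₀ ∧ Odd (M.relIndex K₀) ∧ (∃ j, K₀.relIndex K = 2 ^ j) ∧
      ∀ k ∈ K, ∃ k₀ ∈ K₀, ∃ t ∈ T, k = k₀ * t := by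
  haveI : Fact (Nat.Prime 2) := ⟨Nat.prime_two⟩
  have hT' : IsPGroup 2 (T.subgroupOf K) := hT.of_equiv (subgroupOfEquivOfLe hTK).symm
  have hnd : ¬ 2 ∣ (T.subgroupOf K).index := by
    show ¬ 2 ∣ T.relIndex K
    have := Nat.odd_iff.1 hodd
    omega
  let S : Sylow 2 K := hT'.toSylow hnd
  let M' : Subgroup (S : Subgroup K) := M.comap (K.subtype.comp (S : Subgroup K).subtype)
  haveI : M'.Normal := ⟨fun m hm t => hMn _ t.2 _ hm⟩
  obtain ⟨K₁, hK₁, hidx, hmem⟩ := Involutions.FusionTransfer.exists_normal S M' (fun a b hab => by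
    obtain ⟨g, hg⟩ := hab
    exact hfus _ a.2 _ b.2 g g.2 (congrArg Subtype.val hg))
  obtain ⟨j, hj⟩ : ∃ j, M'.index = 2 ^ j := by
    obtain ⟨n, hn⟩ := IsPGroup.iff_card.1 S.2
    have h := M'.index_dvd_card
    rw [hn] at h
    obtain ⟨j, -, hj⟩ := (Nat.dvd_prime_pow Nat.prime_two).1 h
    exact ⟨j, hj⟩
  have hle : K₁.map K.subtype ≤ K := map_subtype_le _
  have hsub : (K₁.map K.subtype).subgroupOf K = K₁ :=
    comap_map_eq_self_of_injective K.subtype_injective _
  have hn : K ≤ normalizer (K₁.map K.subtype : Set G) :=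
    (normal_subgroupOf_iff_le_normalizer hle).1 (hsub.symm ▸ hK₁)
  have hiff : ∀ t ∈ T, (t ∈ K₁.map K.subtype ↔ t ∈ M) := by
    intro t ht
    have h := hmem ⟨⟨t, hTK ht⟩, ht⟩
    rw [← Subgroup.mem_map_iff_mem K.subtype_injective] at h
    exact h
  have hrel : (K₁.map K.subtype).relIndex K = 2 ^ j := by
    rw [Subgroup.relIndex, hsub, hidx, hj]
  refine ⟨K₁.map K.subtype, hle, hn, hiff, fun m hm => (hiff m (hMT hm)).2 hm, ?_, ⟨j, hrel⟩, ?_⟩
  · have hmap : (M'.map (S : Subgroup K).subtype).map K.subtype = M := by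
      rw [map_map]
      exact map_comap_eq_self (fun m hm => ⟨⟨⟨m, hTK (hMT hm)⟩, hMT hm⟩, rfl⟩)
    have h := (Involutions.FusionTransfer.not_dvd_relIndex S hidx (fun s => (hmem s).2)).2
    rw [← relIndex_map_map_of_injective _ _ K.subtype_injective, hmap] at h
    rw [Nat.odd_iff]
    omega
  · intro k hk
    haveI := hK₁
    have htop : K₁ ⊔ (S : Subgroup K) = ⊤ := by
      rw [← index_eq_one]
      refine Nat.eq_one_of_dvd_coprimes (a := K₁.index) (b := (S : Subgroup K).index) ?_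
        (index_dvd_of_le le_sup_left) (index_dvd_of_le le_sup_right)
      rw [hidx, hj]
      exact ((Nat.prime_two.coprime_iff_not_dvd).2 hnd).pow_left j
    have hk' : (⟨k, hk⟩ : K) ∈ K₁ ⊔ (S : Subgroup K) := by rw [htop]; exact mem_top _
    obtain ⟨k₀, hk₀, t, ht, he⟩ := mem_sup_of_normal_left.1 hk'
    exact ⟨k₀, ⟨k₀, hk₀, rfl⟩, t, ht, congrArg Subtype.val he.symm⟩

/-- The Thompson transfer lemma inside a subgroup. -/
theorem thompson [Finite G] {K T M : Subgroup G} (hTK : T ≤ K) (hodd : Odd (T.relIndex K))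
    (hMT : M ≤ T) (hrel : M.relIndex T = 2) {t : G} (ht : orderOf t = 2) (htK : t ∈ K)
    (hno : ∀ g ∈ K, g * t * g⁻¹ ∉ M) :
    ∃ K₀ : Subgroup G, K₀ ≤ K ∧ K ≤ normalizer (K₀ : Set G) ∧ K₀.relIndex K = 2 ∧ t ∉ K₀ ∧
      ∀ a ∈ K, ∀ b ∈ K, (a * b ∈ K₀ ↔ (a ∈ K₀ ↔ b ∈ K₀)) := by
  have hidx : (M.subgroupOf K).index % 4 = 2 := by
    show M.relIndex K % 4 = 2
    rw [← relIndex_mul_relIndex M T K hMT hTK, hrel]
    obtain ⟨r, hr⟩ := hodd
    omega
  obtain ⟨K₁, hK₁, htK₁⟩ := Involutions.ThompsonTransfer.exists_index_two_of_no_conj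
    (M.subgroupOf K) hidx ⟨t, htK⟩ (by rwa [Subgroup.orderOf_mk]) fun g hg => hno g g.2 hg
  have hle : K₁.map K.subtype ≤ K := map_subtype_le _
  have hsub : (K₁.map K.subtype).subgroupOf K = K₁ :=
    comap_map_eq_self_of_injective K.subtype_injective _
  refine ⟨K₁.map K.subtype, hle,
    (normal_subgroupOf_iff_le_normalizer hle).1 (hsub.symm ▸ normal_of_index_eq_two hK₁), ?_, ?_,
    ?_⟩
  · rw [Subgroup.relIndex, hsub, hK₁]
  · rintro ⟨s, hs, he⟩
    exact htK₁ (by rwa [show (⟨t, htK⟩ : K) = s from Subtype.ext he.symm])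
  · intro a ha b hb
    have h := mul_mem_iff_of_index_two hK₁ (a := (⟨a, ha⟩ : K)) (b := ⟨b, hb⟩)
    simp only [← Subgroup.mem_map_iff_mem K.subtype_injective] at h
    exact h

end Cfsg.Agent.StronglyClosedFour
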