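import Cfsg.Agent.Lib.StronglyClosedFour.Basic
import Cfsg.Agent.S0205
import Cfsg.Agent.S0217

/-!
# An elementary abelian strongly closed subgroup with controlled centralisers

Let `A` be elementary abelian of order at least 8, of odd index in its centraliser, such that
every conjugate of an element of `A` normalising `A` lies in `A`, every centraliser of an
involution of `A` is covered by its odd core and the normaliser of `A`, and `A` has two
non-conjugate involutions. Then `A O(G)` is normal.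
-/

set_option autoImplicit false
set_option linter.style.haveILetI false

namespace Cfsg.Agent.StronglyClosedFour.General

open Subgroup
open scoped Pointwise

universe u

variable {G : Type u} [Group G] [Finite G]

set_option linter.unusedSectionVars false

local notation "C[" t "]" => centralizer ({t} : Set G)

theorem mem_cent {x t : G} : x ∈ centralizer ({t} : Set G) ↔ t * x = x * t := by
  rw [mem_centralizer_iff]
  simp

theorem main (A : Subgroup G) (hsq : ∀ a ∈ A, a * a = 1) (h8 : 8 ≤ Nat.card A)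
    (hCA : Odd (A.relIndex (centralizer (A : Set G))))
    (hclosed : ∀ g : G, ∀ u ∈ A, g * u * g⁻¹ ∈ normalizer (A : Set G) → g * u * g⁻¹ ∈ A)
    (hgood : ∀ u ∈ A, u ≠ 1 → ∀ k ∈ C[u],
      ∃ o ∈ core C[u], ∃ n ∈ normalizer (A : Set G), k = o * n)
    (htwo : ∃ u ∈ A, ∃ v ∈ A, u ≠ 1 ∧ v ≠ 1 ∧ ¬ IsConj u v) :
    (A ⊔ Cfsg.oddCore G).Normal := by
  haveI : Fact (Nat.Prime 2) := ⟨Nat.prime_two⟩
  set NA := normalizer (A : Set G) with hNA
  have hinv : ∀ a ∈ A, a⁻¹ = a := fun a ha => inv_eq_of_mul_eq_one_right (hsq a ha)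
  have hcomm : ∀ a ∈ A, ∀ b ∈ A, a * b = b * a := fun a ha b hb => by
    calc a * b = (a * b)⁻¹ := (hinv _ (mul_mem ha hb)).symm
      _ = b * a := by rw [mul_inv_rev, hinv a ha, hinv b hb]
  have hAp : IsPGroup 2 A := fun a => ⟨1, Subtype.ext (by
    show (a : G) ^ 2 ^ 1 = 1
    rw [pow_one, sq, hsq _ a.2])⟩
  have hAC : ∀ v ∈ A, A ≤ C[v] := fun v hv a ha => mem_cent.2 (hcomm v hv a ha)
  set CA := centralizer (A : Set G) with hCAdef
  have hCAmem : ∀ x, x ∈ CA ↔ ∀ a ∈ A, a * x = x * a := fun x => mem_centralizer_iff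
  have hACA : A ≤ CA := fun a ha => (hCAmem a).2 fun b hb => hcomm b hb a ha
  have hCACv : ∀ v ∈ A, CA ≤ C[v] := fun v hv x hx => mem_cent.2 ((hCAmem x).1 hx v hv)
  have hNCA : NA ≤ normalizer (CA : Set G) := le_normalizer_iff.2 fun n hn x hx => by
    rw [hCAmem] at hx ⊢
    intro a ha
    have ha' : n⁻¹ * a * n ∈ A := (mem_normalizer_iff''.1 hn a).1 ha
    calc a * (n * x * n⁻¹) = n * ((n⁻¹ * a * n) * x) * n⁻¹ := by group
      _ = n * (x * (n⁻¹ * a * n)) * n⁻¹ := by rw [hx _ ha']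
      _ = n * x * n⁻¹ * a := by group
  have hCAN : CA ≤ NA := le_normalizer_iff.2 fun c hc a ha => by
    rwa [← (hCAmem c).1 hc a ha, mul_inv_cancel_right]
  have hCAsplit : ∀ k ∈ CA, ∃ o ∈ core CA, ∃ a ∈ A, k = o * a :=
    burnside hAp hACA hCA fun n hn _ a ha => ((hCAmem n).1 hn a ha).symm
  set OA := core CA with hOA
  have hOAN : NA ≤ normalizer (OA : Set G) := hNCA.trans (normalizer_le_normalizer_core CA)
  have hgn : ∀ v ∈ A, v ≠ 1 → ∀ k ∈ C[v],
      ∃ o ∈ core C[v], ∃ n ∈ NA ⊓ C[v], k = o * n := by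
    intro v hv hv1 k hk
    obtain ⟨o, ho, n, hn, rfl⟩ := hgood v hv hv1 k hk
    refine ⟨o, ho, n, ⟨hn, ?_⟩, rfl⟩
    have := mul_mem (inv_mem (core_le _ ho)) hk
    rwa [inv_mul_cancel_left] at this
  have hOAle : ∀ v ∈ A, v ≠ 1 → OA ≤ core C[v] := by
    intro v hv hv1
    set R := core C[v] with hR
    have hle : OA ≤ C[v] := (core_le CA).trans (hCACv v hv)
    have hRn : OA ≤ normalizer (R : Set G) := hle.trans (le_normalizer_core _)
    have hn : C[v] ≤ normalizer ((OA ⊔ R : Subgroup G) : Set G) := by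
      intro k hk
      obtain ⟨o, ho, n, hn, rfl⟩ := hgn v hv hv1 k hk
      refine mul_mem (Subgroup.le_normalizer (mem_sup_right ho)) (le_normalizer_iff.2 ?_ hn)
      intro m hm x hx
      obtain ⟨a, ha, r, hr, rfl⟩ := (show x ∈ (OA : Set G) * (R : Set G) by
        rw [← coe_mul_of_left_le_normalizer_right OA R hRn]; exact hx)
      rw [show m * (a * r) * m⁻¹ = (m * a * m⁻¹) * (m * r * m⁻¹) by group]
      exact mul_mem (mem_sup_left (le_normalizer_iff.1 hOAN _ hm.1 a ha))
        (mem_sup_right (le_normalizer_iff.1 (le_normalizer_core _) _ hm.2 r hr))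
    exact le_sup_left.trans
      (le_core (sup_le hle (core_le _)) hn (odd_sup hRn (core_odd CA) (core_odd _)))
  -- the signalizer functor
  let θ : G → Subgroup G := fun u => core C[u]
  have hθC : ∀ a ∈ A, a ≠ 1 → θ a ≤ C[a] := fun a _ _ => core_le _
  have hθodd : ∀ a, Odd (Nat.card (θ a)) := fun a => core_odd _
  have hθinv : ∀ a ∈ A, a ≠ 1 → ∀ b ∈ A, ∀ x ∈ θ a, b * x * b⁻¹ ∈ θ a := fun a ha _ b hb x hx =>
    le_normalizer_iff.1 (le_normalizer_core _) b (hAC a ha hb) x hx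
  have hbal : ∀ a ∈ A, a ≠ 1 → ∀ b ∈ A, b ≠ 1 → θ a ⊓ C[b] ≤ θ b := by
    intro a ha ha1 b hb hb1 x hx
    obtain ⟨hxa, hxb⟩ := mem_inf.1 hx
    obtain ⟨r, hr, n, hn, rfl⟩ := hgn b hb hb1 x hxb
    set R := core C[b] with hR
    have hnC : n ∈ CA := by
      refine (hCAmem n).2 fun c hc => ?_
      have hmA : c * (n * c⁻¹ * n⁻¹) ∈ A :=
        mul_mem hc ((mem_normalizer_iff.1 hn.1 _).1 (inv_mem hc))
      have hcx : c * (r * n) * c⁻¹ * (r * n)⁻¹ ∈ θ a :=
        mul_mem (hθinv a ha ha1 c hc _ hxa) (inv_mem hxa)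
      have hcb : c * (r * n) * c⁻¹ * (r * n)⁻¹ =
          (c * r * c⁻¹) * (c * (n * c⁻¹ * n⁻¹)) * r⁻¹ := by group
      have hcr : c * r * c⁻¹ ∈ R := le_normalizer_iff.1 (le_normalizer_core _) c (hAC b hb hc) r hr
      have hsw : ∀ m ∈ A, ∀ s ∈ R, m * s * m⁻¹ ∈ R := fun m hm s hs =>
        le_normalizer_iff.1 (le_normalizer_core _) m (hAC b hb hm) s hs
      generalize hm' : c * (n * c⁻¹ * n⁻¹) = m at hmA hcb
      generalize hy' : c * (r * n) * c⁻¹ * (r * n)⁻¹ = y at hcx hcb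
      have he : y = (c * r * c⁻¹ * (m * r⁻¹ * m⁻¹)) * m := by rw [hcb]; group
      generalize hs' : c * r * c⁻¹ * (m * r⁻¹ * m⁻¹) = s at he
      have hsR : s ∈ R := hs' ▸ mul_mem hcr (hsw m hmA _ (inv_mem hr))
      have hy2 : y * y ∈ R := by
        rw [he, show s * m * (s * m) = s * (m * s * m⁻¹) * (m * m) by group, hsq m hmA, mul_one]
        exact mul_mem hsR (hsw m hmA s hsR)
      have hyR : y ∈ R := by
        obtain ⟨k, hk⟩ := odd_orderOf_of_mem (hθodd a) hcx
        have : y = (y * y) ^ (k + 1) := by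
          rw [← pow_two, ← pow_mul, show 2 * (k + 1) = orderOf y + 1 by omega, pow_succ,
            pow_orderOf_eq_one, one_mul]
        rw [this]
        exact pow_mem hy2 _
      have hmR : m ∈ R := by
        rw [show m = s⁻¹ * y by rw [he, inv_mul_cancel_left]]
        exact mul_mem (inv_mem hsR) hyR
      have hm1 := eq_one_of_two_group (core_odd _) hAp hmR hmA
      subst hm'
      calc c * n = c * (n * c⁻¹ * n⁻¹) * (n * c) := by group
        _ = n * c := by rw [hm1, one_mul]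
    obtain ⟨o, ho, a', ha', rfl⟩ := hCAsplit n hnC
    have hro : r * o ∈ R := mul_mem hr (hOAle b hb hb1 ho)
    have ha'1 : a' = 1 := by
      set x := r * (o * a') with hxdef
      have hx2 : x * x ∈ R := by
        rw [hxdef, show r * (o * a') * (r * (o * a')) =
            r * o * (a' * (r * o) * a'⁻¹) * (a' * a') by group, hsq a' ha', mul_one]
        exact mul_mem hro (le_normalizer_iff.1 (le_normalizer_core _) a' (hAC b hb ha') _ hro)
      obtain ⟨k, hk⟩ := odd_orderOf_of_mem (hθodd a) hxa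
      have hxR : x ∈ R := by
        have : x = (x * x) ^ (k + 1) := by
          rw [← pow_two, ← pow_mul, show 2 * (k + 1) = orderOf x + 1 by omega, pow_succ,
            pow_orderOf_eq_one, one_mul]
        rw [this]
        exact pow_mem hx2 _
      refine eq_one_of_two_group (X := R) (core_odd _) hAp ?_ ha'
      rw [show a' = (r * o)⁻¹ * x by rw [hxdef]; group]
      exact mul_mem (inv_mem hro) hxR
    rw [ha'1, mul_one]
    exact hro
  obtain ⟨hWp, -⟩ := S0217.result A hcomm (fun a ha => by rw [sq]; exact hsq a ha)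
    (by norm_num; exact h8) θ hθC
    (fun a _ _ h => absurd h (by have := Nat.odd_iff.1 (hθodd a); omega)) hθinv
    (fun a _ _ => S0205.result (hθodd a)) hbal
  set W := ⨆ a : {a : G // a ∈ A ∧ a ≠ 1}, θ a with hW
  have hWodd : Odd (Nat.card W) := by rw [Nat.odd_iff]; omega
  have hθW : ∀ a ∈ A, a ≠ 1 → θ a ≤ W := fun a ha ha1 =>
    le_iSup (fun b : {a : G // a ∈ A ∧ a ≠ 1} => θ b) ⟨a, ha, ha1⟩
  have hNW : NA ≤ normalizer (W : Set G) := by
    refine le_normalizer_iff.2 fun n hn x hx => ?_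
    have hle : W ≤ W.comap (MulAut.conj n).toMonoidHom := by
      refine iSup_le fun b => fun y hy => ?_
      show n * y * n⁻¹ ∈ W
      refine hθW (n * b.1 * n⁻¹) ((mem_normalizer_iff.1 hn _).1 b.2.1)
        (fun h => b.2.2 (conj_eq_one_iff.1 h)) (conj_mem_core (fun z hz => ?_) (fun z hz => ?_) hy)
      · rw [mem_cent] at hz ⊢
        calc n * b.1 * n⁻¹ * (n * z * n⁻¹) = n * (b.1 * z) * n⁻¹ := by group
          _ = n * (z * b.1) * n⁻¹ := by rw [hz]
          _ = n * z * n⁻¹ * (n * b.1 * n⁻¹) := by group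
      · rw [mem_cent] at hz ⊢
        calc b.1 * (n⁻¹ * z * n) = n⁻¹ * ((n * b.1 * n⁻¹) * z) * n := by group
          _ = n⁻¹ * (z * (n * b.1 * n⁻¹)) * n := by rw [hz]
          _ = n⁻¹ * z * n * b.1 := by group
    exact hle hx
  have hCW : ∀ a ∈ A, a ≠ 1 → C[a] ≤ normalizer (W : Set G) := by
    intro a ha ha1 k hk
    obtain ⟨o, ho, n, hn, rfl⟩ := hgn a ha ha1 k hk
    exact mul_mem (Subgroup.le_normalizer (hθW a ha ha1 ho)) (hNW hn.1)
  have hoddC : ∀ a ∈ A, Odd ((NA ⊓ C[a]).relIndex C[a]) := fun a ha =>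
    odd_relIndex hAp hclosed (hAC a ha)
  -- every overgroup of `N(A)` and all the centralisers contains all conjugates
  have pass : ∀ M : Subgroup G, NA ≤ M → (∀ u ∈ A, u ≠ 1 → C[u] ≤ M) →
      ∀ w ∈ A, w ≠ 1 → ∀ g : G, g * w * g⁻¹ ∈ M := by
    intro M hNM hCM w hw hw1 g
    obtain ⟨u, hu, hu1, huw⟩ : ∃ u ∈ A, u ≠ 1 ∧ ¬ IsConj u w := by
      obtain ⟨p, hp, q, hq, hp1, hq1, hpq⟩ := htwo
      by_cases h : IsConj p w
      · exact ⟨q, hq, hq1, fun h' => hpq (h.trans h'.symm)⟩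
      · exact ⟨p, hp, hp1, h⟩
    set v := g * w * g⁻¹ with hv
    have ou : orderOf u = 2 := Involutions.Basic.orderOf_two_iff.2 ⟨hsq u hu, hu1⟩
    have ow : orderOf w = 2 := Involutions.Basic.orderOf_two_iff.2 ⟨hsq w hw, hw1⟩
    have ov : orderOf v = 2 := by rw [hv, Involutions.Basic.orderOf_conj, ow]
    have huv : ¬ IsConj u v := fun h => huw (h.trans (isConj_iff.2 ⟨g, rfl⟩).symm)
    obtain ⟨oi, ciu, civ⟩ := Involutions.Basic.middle_involution ou ov
      (Involutions.Basic.even_orderOf_mul_of_not_isConj ou ov huv)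
    set d := u * v with hd
    set m := orderOf d / 2 with hm
    set i := d ^ m with hi
    have hiu : ∃ c ∈ A, ∃ h : G, i * u = h * c * h⁻¹ := by
      have key : ∀ k : ℤ, d ^ k * u * (d ^ k)⁻¹ = d ^ (2 * k) * u := by
        intro k
        rw [Involutions.Basic.zpow_conj_left ou ov, ← hd,
          Involutions.Basic.zpow_mul_left ou ov, show -2 * k = -(2 * k) by ring]
      rcases Nat.even_or_odd' m with ⟨k, hk | hk⟩
      · refine ⟨u, hu, d ^ (k : ℤ), ?_⟩
        rw [key, hi, hk, ← zpow_natCast]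
        push_cast
        rfl
      · refine ⟨w, hw, d ^ (k : ℤ) * u * g, ?_⟩
        have e : d ^ (k : ℤ) * u * g * w * (d ^ (k : ℤ) * u * g)⁻¹ =
            d ^ (k : ℤ) * (d * u) * (d ^ (k : ℤ))⁻¹ := by
          rw [hd, hv, show u * (g * w * g⁻¹) * u = u * (g * w * g⁻¹) * u⁻¹ by
            rw [hinv u hu]]
          group
        rw [e, show d ^ (k : ℤ) * (d * u) * (d ^ (k : ℤ))⁻¹ =
            d * (d ^ (k : ℤ) * u * (d ^ (k : ℤ))⁻¹) by group, key, hi, hk, ← mul_assoc,
          ← zpow_one_add, ← zpow_natCast]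
        congr 2
        push_cast
        ring
    obtain ⟨c₀, hc₀, h₀, he₀⟩ := hiu
    have hne : i * u ≠ 1 := by
      intro h
      have hiu' : i = u := by rw [eq_inv_of_mul_eq_one_left h, hinv u hu]
      rw [hiu'] at civ
      have hd2 : d ^ 2 = 1 := by
        rw [hd, sq, show u * v * (u * v) = u * (v * u) * v by group, ← civ.eq,
          show u * (u * v) * v = (u * u) * (v * v) by group, hsq u hu,
          Involutions.Basic.inv_sq_one ov, one_mul]
      have hd1 : d ≠ 1 := fun h1 =>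
        huv (by rw [← eq_inv_of_mul_eq_one_right (hd ▸ h1) |>.trans (hinv u hu)])
      have hm1 : m = 1 := by rw [hm, orderOf_eq_prime hd2 hd1]
      rw [hi, hm1, pow_one, hd] at hiu'
      exact Involutions.Basic.ne_one ov (mul_eq_left.1 hiu')
    have hiuC : i * u ∈ C[u] := mem_cent.2 ((ciu.symm.mul_right (Commute.refl u)).eq)
    have hiu2 : i * u * (i * u) = 1 := by
      rw [he₀, show h₀ * c₀ * h₀⁻¹ * (h₀ * c₀ * h₀⁻¹) = h₀ * (c₀ * c₀) * h₀⁻¹ by group,
        hsq c₀ hc₀, mul_one, mul_inv_cancel]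
    obtain ⟨c, hc, hcN⟩ := exists_conj_into_involution hiu2 hiuC (hoddC u hu)
    have hcA : c⁻¹ * (i * u) * c ∈ A := by
      have h := hclosed (c⁻¹ * h₀) c₀ hc₀
      rw [show c⁻¹ * h₀ * c₀ * (c⁻¹ * h₀)⁻¹ = c⁻¹ * (h₀ * c₀ * h₀⁻¹) * c by group, ← he₀] at h
      exact h (mem_inf.1 hcN).1
    have hw'A : c⁻¹ * (i * u) * c * u ∈ A := mul_mem hcA hu
    have hcu : u * c = c * u := mem_cent.1 hc
    have he : c⁻¹ * (i * u) * c * u = c⁻¹ * i * c := by
      rw [show c⁻¹ * (i * u) * c * u = c⁻¹ * i * (u * c) * u by group, hcu,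
        show c⁻¹ * i * (c * u) * u = c⁻¹ * i * c * (u * u) by group, hsq u hu, mul_one]
    rw [he] at hw'A
    have hne' : c⁻¹ * i * c ≠ 1 := fun h => Involutions.Basic.ne_one oi (by
      calc i = c * (c⁻¹ * i * c) * c⁻¹ := by group
        _ = 1 := by rw [h, mul_one, mul_inv_cancel])
    have hcM : c ∈ M := hCM u hu hu1 hc
    have hvM : c⁻¹ * v * c ∈ M := hCM _ hw'A hne' (mem_cent.2 (by
      calc c⁻¹ * i * c * (c⁻¹ * v * c) = c⁻¹ * (i * v) * c := by group
        _ = c⁻¹ * (v * i) * c := by rw [civ.eq]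
        _ = c⁻¹ * v * c * (c⁻¹ * i * c) := by group))
    have := mul_mem (mul_mem hcM hvM) (inv_mem hcM)
    rwa [show c * (c⁻¹ * v * c) * c⁻¹ = v by group] at this
  set O := Cfsg.oddCore G with hO
  haveI hOn : O.Normal := by rw [hO]; infer_instance
  have hWO : W ≤ O := by
    set L := normalClosure (A : Set G) with hL
    have hLn : L ≤ normalizer (W : Set G) := by
      rw [hL, normalClosure, closure_le]
      intro x hx
      obtain ⟨a, ha, hax⟩ := Group.mem_conjugatesOfSet_iff.1 hx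
      obtain ⟨g, rfl⟩ := isConj_iff.1 hax
      rcases eq_or_ne a 1 with rfl | ha1
      · simp
      exact pass _ hNW hCW a ha ha1 g
    haveI : L.Normal := normalClosure_normal
    have hWL : W ⊓ L ≤ O := by
      have h : W ⊓ L ≤ core L := le_core inf_le_right
        (le_normalizer_iff.2 fun l hl x hx => mem_inf.2
          ⟨le_normalizer_iff.1 hLn l hl x hx.1, mul_mem (mul_mem hl hx.2) (inv_mem hl)⟩)
        (hWodd.of_dvd_nat (card_dvd_of_le inf_le_left))
      haveI : (core L).Normal := by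
        rw [← normalizer_eq_top_iff, eq_top_iff]
        refine le_trans ?_ (normalizer_le_normalizer_core L)
        rw [normalizer_eq_top]
      exact h.trans (Cores.le_oddCore (core_odd L))
    let q := QuotientGroup.mk' O
    have hq : ∀ x, q x = 1 ↔ x ∈ O := fun x => QuotientGroup.eq_one_iff x
    set C := (centralizer ((L.map q : Subgroup (G ⧸ O)) : Set (G ⧸ O))).comap q with hC
    haveI : (L.map q).Normal := Normal.map inferInstance q (QuotientGroup.mk'_surjective O)
    haveI : C.Normal := by rw [hC]; infer_instance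
    have hWC : W ≤ C := by
      intro x hx
      rw [hC, mem_comap, mem_centralizer_iff]
      rintro _ ⟨l, hl, rfl⟩
      have h : l * x * l⁻¹ * x⁻¹ ∈ O := hWL (mem_inf.2
        ⟨mul_mem (le_normalizer_iff.1 hLn l hl x hx) (inv_mem hx),
          by rw [show l * x * l⁻¹ * x⁻¹ = l * (x * l⁻¹ * x⁻¹) by group]
             exact mul_mem hl (Normal.conj_mem inferInstance _ (inv_mem hl) x)⟩)
      rw [← map_mul, ← map_mul]
      calc q (l * x) = q (l * x * l⁻¹ * x⁻¹) * q (x * l) := by rw [← map_mul]; group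
        _ = q (x * l) := by rw [(hq _).2 h, one_mul]
    have hodd : Odd (A.relIndex (A ⊔ O)) := by
      have h1 : A.relIndex (A ⊔ O) * Nat.card A = Nat.card ↥(A ⊔ O) := by
        rw [mul_comm, ← relIndex_bot_left, ← relIndex_bot_left]
        exact relIndex_mul_relIndex _ _ _ bot_le le_sup_left
      have h2 := Cores.card_sup_dvd_mul A O
      rw [← h1, mul_comm (Nat.card A)] at h2
      exact Cores.oddCore_odd.of_dvd_nat (Nat.dvd_of_mul_dvd_mul_right Nat.card_pos h2)
    have hCsub : ∀ x ∈ C, ∃ o ∈ O, ∃ o' ∈ OA, ∃ a ∈ A, x = o * (o' * a) := by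
      intro x hx
      rw [hC, mem_comap, mem_centralizer_iff] at hx
      have hx' : ∀ a ∈ A, a * x * a⁻¹ * x⁻¹ ∈ O := fun a ha => by
        rw [← hq, map_mul, map_mul, map_mul, hx _ ⟨a, subset_normalClosure ha, rfl⟩, map_inv,
          map_inv]
        group
      have hB : A.map (MulAut.conj x).toMonoidHom ≤ A ⊔ O := by
        rintro _ ⟨a, ha, rfl⟩
        show x * a * x⁻¹ ∈ _
        rw [show x * a * x⁻¹ = a * (a⁻¹ * x * (a⁻¹)⁻¹ * x⁻¹) by group]
        exact mul_mem (mem_sup_left ha) (mem_sup_right (hx' _ (inv_mem ha)))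
      obtain ⟨k, hk, hkA⟩ := exists_conj_into (hAp.map _) hB hodd
      obtain ⟨o, ho, a, ha, rfl⟩ := mem_sup_of_normal_left.1 (sup_comm A O ▸ hk)
      set n := o⁻¹ * x with hn
      have hnN : n ∈ NA := mem_normalizer_fintype fun u hu => by
        have := hkA _ ⟨u, hu, rfl⟩
        change (o * a)⁻¹ * (x * u * x⁻¹) * (o * a) ∈ A at this
        have h2 := mul_mem (mul_mem ha this) (inv_mem ha)
        rwa [show a * ((o * a)⁻¹ * (x * u * x⁻¹) * (o * a)) * a⁻¹ =
          o⁻¹ * x * u * (o⁻¹ * x)⁻¹ by group] at h2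
      have hnC : n ∈ CA := by
        refine (hCAmem n).2 fun c hc => ?_
        have hmA : c * (n * c⁻¹ * n⁻¹) ∈ A :=
          mul_mem hc ((mem_normalizer_iff.1 hnN _).1 (inv_mem hc))
        have hmO : c * (n * c⁻¹ * n⁻¹) ∈ O := by
          rw [hn, show c * (o⁻¹ * x * c⁻¹ * (o⁻¹ * x)⁻¹) =
            (c * o⁻¹ * c⁻¹) * (c * x * c⁻¹ * x⁻¹) * o by group]
          exact mul_mem (mul_mem (hOn.conj_mem _ (inv_mem ho) c) (hx' c hc)) ho
        have h1 := eq_one_of_two_group Cores.oddCore_odd hAp hmO hmA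
        calc c * n = c * (n * c⁻¹ * n⁻¹) * (n * c) := by group
          _ = n * c := by rw [h1, one_mul]
      obtain ⟨o', ho', a', ha', he⟩ := hCAsplit n hnC
      exact ⟨o, ho, o', ho', a', ha', by rw [← he, hn]; group⟩
    -- the odd part of `C`
    set K := C ⊓ (OA ⊔ O) with hK
    have hKodd : Odd (Nat.card K) := (odd_sup (by rw [normalizer_eq_top]; exact le_top)
      (core_odd CA) Cores.oddCore_odd).of_dvd_nat (card_dvd_of_le inf_le_right)
    have hKmem : ∀ x ∈ C, Odd (orderOf x) → x ∈ K := by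
      intro x hx hox
      refine mem_inf.2 ⟨hx, ?_⟩
      obtain ⟨o, ho, o', ho', a, ha, he⟩ := hCsub x hx
      have ho'C : ∀ c ∈ A, c * o' = o' * c := fun c hc => (hCAmem o').1 (core_le CA ho') c hc
      set p := o * o' with hp
      have hxp : x = p * a := by rw [he, hp, mul_assoc]
      have hpm : p ∈ OA ⊔ O := mul_mem (mem_sup_right ho) (mem_sup_left ho')
      have hpa : a * p * a⁻¹ ∈ OA ⊔ O := by
        rw [hp, show a * (o * o') * a⁻¹ = (a * o * a⁻¹) * (a * o' * a⁻¹) by group, ho'C a ha,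
          mul_inv_cancel_right]
        exact mul_mem (mem_sup_right (hOn.conj_mem _ ho a)) (mem_sup_left ho')
      have hx2 : x * x ∈ OA ⊔ O := by
        rw [hxp, show p * a * (p * a) = p * (a * p * a⁻¹) * (a * a) by group, hsq a ha, mul_one]
        exact mul_mem hpm hpa
      obtain ⟨k, hk⟩ := hox
      rw [show x = (x * x) ^ (k + 1) by
        rw [← pow_two, ← pow_mul, show 2 * (k + 1) = orderOf x + 1 by omega, pow_succ,
          pow_orderOf_eq_one, one_mul]]
      exact pow_mem hx2 _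
    haveI : K.Normal := ⟨fun x hx g => hKmem _ (Normal.conj_mem inferInstance x (mem_inf.1 hx).1 g)
      (by rw [Involutions.Basic.orderOf_conj]; exact odd_orderOf_of_mem hKodd hx)⟩
    exact fun x hx => Cores.le_oddCore hKodd (hKmem x (hWC hx) (odd_orderOf_of_mem hWodd hx))
  set M := O ⊔ NA with hM
  have hCM : ∀ a ∈ A, a ≠ 1 → C[a] ≤ M := by
    intro a ha ha1 k hk
    obtain ⟨o, ho, n, hn, rfl⟩ := hgn a ha ha1 k hk
    exact mul_mem (mem_sup_left (hWO (hθW a ha ha1 ho))) (mem_sup_right hn.1)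
  have hModd : Odd (NA.relIndex M) := by
    have h := odd_relIndex hAp hclosed (K := M) (Subgroup.le_normalizer.trans le_sup_right)
    rwa [inf_eq_left.2 le_sup_right] at h
  refine ⟨fun x hx g => ?_⟩
  obtain ⟨a, ha, o, ho, rfl⟩ := mem_sup_of_normal_right.1 hx
  rw [show g * (a * o) * g⁻¹ = (g * a * g⁻¹) * (g * o * g⁻¹) by group]
  refine mul_mem ?_ (mem_sup_right (hOn.conj_mem o ho g))
  rcases eq_or_ne a 1 with rfl | ha1
  · simp
  have hvM := pass M le_sup_right hCM a ha ha1 g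
  have hv2 : g * a * g⁻¹ * (g * a * g⁻¹) = 1 := by
    rw [show g * a * g⁻¹ * (g * a * g⁻¹) = g * (a * a) * g⁻¹ by group, hsq a ha, mul_one,
      mul_inv_cancel]
  obtain ⟨k, hk, hkN⟩ := exists_conj_into_involution hv2 hvM hModd
  have hkA : k⁻¹ * (g * a * g⁻¹) * k ∈ A := by
    have h := hclosed (k⁻¹ * g) a ha
    rw [show k⁻¹ * g * a * (k⁻¹ * g)⁻¹ = k⁻¹ * (g * a * g⁻¹) * k by group] at h
    exact h hkN
  obtain ⟨o', ho', n, hn, rfl⟩ := mem_sup_of_normal_left.1 hk
  generalize hb' : (o' * n)⁻¹ * (g * a * g⁻¹) * (o' * n) = b at hkA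
  have hb : n * b * n⁻¹ ∈ A := (mem_normalizer_iff.1 hn b).1 hkA
  rw [show g * a * g⁻¹ = o' * (n * b * n⁻¹) * o'⁻¹ by rw [← hb']; group]
  exact mul_mem (mul_mem (mem_sup_right ho') (mem_sup_left hb)) (mem_sup_right (inv_mem ho'))

end Cfsg.Agent.StronglyClosedFour.General
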