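import Mathlib

/-!
# The centre of a Sylow 2-subgroup of the alternating group of degree eight
-/

set_option autoImplicit false
set_option linter.style.haveILetI false

namespace Cfsg.Agent.StronglyClosedFour.AltEight

open Subgroup Equiv

/-- The permutations respecting the residues modulo four and acting on them by translations. -/
def blockTranslations : Subgroup (Perm (Fin 8)) where
  carrier := {σ | ∀ i : Fin 8, (σ i).val % 4 = (i.val + (σ 0).val) % 4}
  one_mem' := fun i => by simp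
  mul_mem' := by
    intro σ τ hσ hτ i
    have h1 := hσ (τ i)
    have h2 := hτ i
    have h3 := hσ (τ 0)
    simp only [Perm.mul_apply]
    omega
  inv_mem' := by
    intro σ hσ i
    have h1 := hσ (σ⁻¹ i)
    have h3 := hσ (σ⁻¹ 0)
    simp only [Perm.inv_def, Equiv.apply_symm_apply, Fin.val_zero] at h1 h3 ⊢
    omega

theorem isPGroup_blockTranslations : IsPGroup 2 blockTranslations := by
  intro σ
  refine ⟨3, ?_⟩
  have hσ := σ.2
  set τ := (σ : Perm (Fin 8)) ^ 4 with hτ
  have h4 : ∀ i : Fin 8, (τ i).val % 4 = i.val % 4 := by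
    intro i
    have a1 := hσ i
    have a2 := hσ ((σ : Perm (Fin 8)) i)
    have a3 := hσ ((σ : Perm (Fin 8)) ((σ : Perm (Fin 8)) i))
    have a4 := hσ ((σ : Perm (Fin 8)) ((σ : Perm (Fin 8)) ((σ : Perm (Fin 8)) i)))
    simp only [hτ, pow_succ, pow_zero, one_mul, Perm.mul_apply]
    omega
  have h8 : τ * τ = 1 := by
    ext i
    have b1 := h4 i
    have b2 := h4 (τ i)
    simp only [Perm.mul_apply, Perm.one_apply]
    by_cases h : τ i = i
    · simp [h]
    · have h' : τ (τ i) ≠ τ i := fun e => h (τ.injective e)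
      have : (τ i).val ≠ i.val := fun e => h (Fin.ext e)
      have : (τ (τ i)).val ≠ (τ i).val := fun e => h' (Fin.ext e)
      have := (τ i).isLt
      have := (τ (τ i)).isLt
      have := i.isLt
      omega
  apply Subtype.ext
  rw [SubmonoidClass.coe_pow, OneMemClass.coe_one, show (2 : ℕ) ^ 3 = 4 + 4 by norm_num, pow_add]
  exact h8

/-- Four-cycles on both halves. -/
def rot : Perm (Fin 8) := c[0, 1, 2, 3] * c[4, 5, 6, 7]

/-- Two of the block transpositions. -/
def flipA : Perm (Fin 8) := swap 0 4 * swap 1 5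

/-- Two other block transpositions. -/
def flipB : Perm (Fin 8) := swap 0 4 * swap 2 6

theorem gens_mem : (rot ∈ blockTranslations ∧ flipA ∈ blockTranslations ∧ flipB ∈ blockTranslations) ∧
    Perm.sign rot = 1 ∧ Perm.sign flipA = 1 ∧ Perm.sign flipB = 1 := by
  refine ⟨⟨?_, ?_, ?_⟩, ?_, ?_, ?_⟩ <;> first | (intro i; revert i; decide) | decide

/-- The determined commuting permutation. -/
def target (j : Fin 8) (i : Fin 8) : Fin 8 :=
  if i.val < 4 then (rot ^ i.val) j else (rot ^ (i.val - 4)) (flipA j)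

theorem tables : (∀ j : Fin 8, flipA j = flipB j → flipA j ≠ j → j = 0 ∨ j = 4) ∧
    (∀ i : Fin 8, i = if i.val < 4 then (rot ^ i.val) 0 else (rot ^ (i.val - 4)) (flipA 0)) ∧
    flipA 0 = 4 ∧ flipB 0 = 4 := by
  decide

theorem commute_all {σ : Perm (Fin 8)} (hr : σ * rot = rot * σ) (ha : σ * flipA = flipA * σ)
    (hb : σ * flipB = flipB * σ) : (σ 0 = 0 ∨ σ 0 = 4) ∧ ∀ i, σ i = target (σ 0) i := by
  obtain ⟨t1, t2, t3, t4⟩ := tables
  have a0 : flipA (σ 0) = σ 4 := by
    have := congrArg (fun f : Perm (Fin 8) => f 0) ha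
    simp only [Perm.mul_apply, t3] at this
    exact this.symm
  have b0 : flipB (σ 0) = σ 4 := by
    have := congrArg (fun f : Perm (Fin 8) => f 0) hb
    simp only [Perm.mul_apply, t4] at this
    exact this.symm
  refine ⟨t1 _ (a0.trans b0.symm) (fun h => absurd (σ.injective (a0.symm.trans h)) (by decide)), ?_⟩
  have hp : ∀ (k : ℕ) (i : Fin 8), σ ((rot ^ k) i) = (rot ^ k) (σ i) := fun k i =>
    congrArg (fun f : Perm (Fin 8) => f i) ((show Commute σ rot from hr).pow_right k)
  intro i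
  unfold target
  conv_lhs => rw [t2 i]
  split <;> rw [hp]
  congr 1
  exact congrArg (fun f : Perm (Fin 8) => f 0) ha

theorem card_center_sylow_le (P : Sylow 2 ↥(alternatingGroup (Fin 8))) :
    Nat.card (Subgroup.center ↥(P : Subgroup ↥(alternatingGroup (Fin 8)))) ≤ 2 := by
  haveI : Fact (Nat.Prime 2) := ⟨Nat.prime_two⟩
  obtain ⟨⟨m1, m2, m3⟩, s1, s2, s3⟩ := gens_mem
  obtain ⟨Q, hQ⟩ := (isPGroup_blockTranslations.comap_subtype :
    IsPGroup 2 (blockTranslations.subgroupOf (alternatingGroup (Fin 8)))).exists_le_sylow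
  rw [Nat.card_congr (Subgroup.centerCongr (P.equiv Q)).toEquiv]
  let r : ↥(Q : Subgroup ↥(alternatingGroup (Fin 8))) :=
    ⟨⟨rot, Perm.mem_alternatingGroup.2 s1⟩, hQ m1⟩
  let a : ↥(Q : Subgroup ↥(alternatingGroup (Fin 8))) :=
    ⟨⟨flipA, Perm.mem_alternatingGroup.2 s2⟩, hQ m2⟩
  let b : ↥(Q : Subgroup ↥(alternatingGroup (Fin 8))) :=
    ⟨⟨flipB, Perm.mem_alternatingGroup.2 s3⟩, hQ m3⟩
  let f : Subgroup.center ↥(Q : Subgroup ↥(alternatingGroup (Fin 8))) → Fin 2 := fun z =>
    if ((z.1 : ↥(alternatingGroup (Fin 8))) : Perm (Fin 8)) 0 = 0 then 0 else 1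
  have hf : Function.Injective f := by
    intro y z h
    have key : ∀ w : Subgroup.center ↥(Q : Subgroup ↥(alternatingGroup (Fin 8))),
        (((w.1 : ↥(alternatingGroup (Fin 8))) : Perm (Fin 8)) 0 = 0 ∨
          ((w.1 : ↥(alternatingGroup (Fin 8))) : Perm (Fin 8)) 0 = 4) ∧
        ∀ i, ((w.1 : ↥(alternatingGroup (Fin 8))) : Perm (Fin 8)) i =
          target (((w.1 : ↥(alternatingGroup (Fin 8))) : Perm (Fin 8)) 0) i := by
      intro w
      have hc : ∀ g, g * w.1 = w.1 * g := fun g => Subgroup.mem_center_iff.1 w.2 g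
      refine commute_all ?_ ?_ ?_
      · exact (congrArg (fun x : ↥(Q : Subgroup ↥(alternatingGroup (Fin 8))) =>
          ((x : ↥(alternatingGroup (Fin 8))) : Perm (Fin 8))) (hc r)).symm
      · exact (congrArg (fun x : ↥(Q : Subgroup ↥(alternatingGroup (Fin 8))) =>
          ((x : ↥(alternatingGroup (Fin 8))) : Perm (Fin 8))) (hc a)).symm
      · exact (congrArg (fun x : ↥(Q : Subgroup ↥(alternatingGroup (Fin 8))) =>
          ((x : ↥(alternatingGroup (Fin 8))) : Perm (Fin 8))) (hc b)).symm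
    obtain ⟨hy, hy'⟩ := key y
    obtain ⟨hz, hz'⟩ := key z
    refine Subtype.ext (Subtype.ext (Subtype.ext (Equiv.ext fun i => ?_)))
    rw [hy' i, hz' i]
    congr 1
    simp only [f] at h
    rcases hy with hy | hy <;> rcases hz with hz | hz <;> simp [hy, hz] at h ⊢
  calc _ ≤ Nat.card (Fin 2) := Nat.card_le_card_of_injective f hf
    _ = 2 := Nat.card_fin 2

end Cfsg.Agent.StronglyClosedFour.AltEight
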