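import Cfsg.Agent.Lib.StronglyClosedFour.Fusion

/-!
# The centraliser of the subgroup of even vectors
-/

set_option autoImplicit false
set_option linter.style.haveILetI false
set_option linter.unusedSectionVars false
set_option maxRecDepth 100000

namespace Cfsg.Agent.StronglyClosedFour

open Subgroup Equiv

universe u

variable {G : Type u} [Group G] [Finite G]

/-- Goodness: covered by the odd core and the normaliser of `A`. -/
def Good (A K : Subgroup G) : Prop :=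
  ∀ k ∈ K, ∃ o ∈ core K, ∃ n ∈ normalizer (A : Set G), k = o * n

namespace Masks

/-- The standard four-group. -/
def four : Subgroup (Perm (Fin 5)) where
  carrier := {σ | σ = 1 ∨ σ = s₁ ∨ σ = s₂ ∨ σ = s₃}
  one_mem' := Or.inl rfl
  mul_mem' := by
    obtain ⟨-, -, -, -, -, -, q1, q2, q3, p12, p21, p13, p31, p23, p32⟩ := four_spec
    rintro σ τ (rfl | rfl | rfl | rfl) (rfl | rfl | rfl | rfl) <;>
      simp [q1, q2, q3, p12, p21, p13, p31, p23, p32]
  inv_mem' := by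
    obtain ⟨-, -, -, -, -, -, q1, q2, q3, -⟩ := four_spec
    rintro σ (rfl | rfl | rfl | rfl) <;>
      simp [inv_eq_of_mul_eq_one_right q1, inv_eq_of_mul_eq_one_right q2,
        inv_eq_of_mul_eq_one_right q3]

theorem mem_four {σ : Perm (Fin 5)} : σ ∈ four ↔ σ ∈ [1, s₁, s₂, s₃] := by
  show (σ = 1 ∨ σ = s₁ ∨ σ = s₂ ∨ σ = s₃) ↔ _
  simp

theorem card_four : Nat.card ↥four = 4 := by
  show Nat.card ↥({σ | σ = 1 ∨ σ = s₁ ∨ σ = s₂ ∨ σ = s₃} : Set (Perm (Fin 5))) = 4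
  rw [show {σ | σ = 1 ∨ σ = s₁ ∨ σ = s₂ ∨ σ = s₃} =
    ({1, s₁, s₂, s₃} : Set (Perm (Fin 5))) from rfl, Nat.card_coe_set_eq,
    Set.ncard_eq_toFinset_card']
  decide +kernel

theorem flat_xor : ∀ a ∈ flat, ∀ b ∈ flat, a ^^^ b ∈ flat := by decide +kernel

theorem flat_cover : ∀ m : Fin 16, m ∈ flat ∨ m ^^^ 1 ∈ flat := by decide +kernel

theorem flat_faithful : ∀ σ : Perm (Fin 5), Perm.sign σ = 1 →
    (∀ m ∈ flat, act σ m = m) → σ = 1 := by decide +kernel

theorem four_flat : ∀ σ ∈ [1, s₁, s₂, s₃], ∀ m ∈ flat,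
    act σ m ^^^ m = 0 ∨ act σ m ^^^ m = 15 := by decide +kernel

theorem flat_kinds : ∀ m ∈ flat, m = 0 ∨ m = 15 ∨ ∃ i j, i ≠ j ∧ m = pt i ^^^ pt j := by
  decide +kernel

theorem four_fixed : ∀ σ ∈ [s₁, s₂, s₃], ∀ m : Fin 16, act σ m = m → m ∈ flat := by
  decide +kernel

theorem s₃_fixed : ∀ m : Fin 16, act s₃ m ^^^ m = 0 ∨ act s₃ m ^^^ m = 15 → m ∈ flat := by
  decide +kernel

theorem fixed_both : ∀ m : Fin 16, act s₁ m = m → act s₂ m = m → m = 0 ∨ m = 15 := by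
  decide +kernel

theorem fix_four : ∀ σ : Perm (Fin 5), Perm.sign σ = 1 → (act σ 15 = 15 ↔ σ 4 = 4) := by
  decide +kernel

theorem outer_free : ∀ σ : Perm (Fin 5), Perm.sign σ = 1 → σ 4 = 4 → σ ∉ [1, s₁, s₂, s₃] →
    (∀ v ∈ [s₁, s₂, s₃], σ * v ≠ v * σ) ∧
      ∀ m ∈ flat, (act σ m = m ∨ act σ m = m ^^^ 15) → m = 0 ∨ m = 15 := by
  decide +kernel

theorem conj_table : c₃ * s₁ = s₃ * c₃ ∧ c₃ * s₃ = s₂ * c₃ := by decide +kernel

end Masks

namespace Model

variable {A : Subgroup G} (M : Model A)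
include M

local notation "NA" => normalizer (A : Set G)
local notation "ON" => core (normalizer (A : Set G))

theorem le_cent (m : Fin 16) : A ≤ centralizer ({M.f m} : Set G) := fun _ ha =>
  mem_centralizer_singleton_iff.2 (M.toPre.comm ha (M.f_mem m))

/-- The even vectors. -/
def flatGroup : Subgroup G where
  carrier := {x | ∃ m ∈ Masks.flat, M.f m = x}
  one_mem' := ⟨0, by decide, M.f_zero⟩
  mul_mem' := by
    rintro _ _ ⟨a, ha, rfl⟩ ⟨b, hb, rfl⟩
    exact ⟨a ^^^ b, Masks.flat_xor a ha b hb, M.f_mul a b⟩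
  inv_mem' := by
    rintro _ ⟨a, ha, rfl⟩
    exact ⟨a, ha, (M.toPre.inv_eq (M.f_mem a)).symm⟩

theorem f_mem_flat {m : Fin 16} : M.f m ∈ M.flatGroup ↔ m ∈ Masks.flat :=
  ⟨fun ⟨_, hk, he⟩ => M.f_inj he ▸ hk, fun h => ⟨m, h, rfl⟩⟩

theorem flat_le : M.flatGroup ≤ A := fun _ ⟨m, _, he⟩ => he ▸ M.f_mem m

/-- The centraliser of the even vectors. -/
def flatCent : Subgroup G := centralizer (M.flatGroup : Set G)

theorem le_flatCent : A ≤ M.flatCent := fun _ ha =>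
  mem_centralizer_iff.2 fun _ hp => M.toPre.comm (M.flat_le hp) ha

theorem flatCent_perm {n : ↥NA} (hn : (n : G) ∈ M.flatCent) : M.perm n = 1 :=
  Masks.flat_faithful _ (M.toPre.perm_sign n) fun m hm =>
    (M.commute_iff n m).1 (mem_centralizer_iff.1 hn _ (M.f_mem_flat.2 hm)).symm

theorem odd_relIndex_of_trivial {K : Subgroup G} (hAK : A ≤ K)
    (h : ∀ n : ↥NA, (n : G) ∈ K → M.perm n = 1)
    (hc : ∀ g : G, ∀ u ∈ A, g * u * g⁻¹ ∈ NA → g * u * g⁻¹ ∈ A) : Odd (A.relIndex K) := by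
  have hle : normalizer (A : Set G) ⊓ K ≤ A ⊔ ON := by
    rintro x ⟨hx, hxK⟩
    obtain ⟨a, ha, o, ho, he⟩ := M.toPre.perm_eq_one (h ⟨x, hx⟩ hxK)
    rw [show x = a * o from he]
    exact mul_mem (mem_sup_left ha) (mem_sup_right ho)
  have hA1 : A ≤ normalizer (A : Set G) ⊓ K := le_inf Subgroup.le_normalizer hAK
  have hn : A ≤ normalizer (ON : Set G) := Subgroup.le_normalizer.trans (le_normalizer_core _)
  have h1 : Odd (A.relIndex (A ⊔ ON)) := by
    haveI : ((ON).subgroupOf (A ⊔ ON)).Normal :=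
      normal_subgroupOf_of_le_normalizer (sup_le hn Subgroup.le_normalizer)
    have h2 := Cores.card_sup_dvd_mul (A.subgroupOf (A ⊔ ON)) ((ON).subgroupOf (A ⊔ ON))
    rw [← subgroupOf_sup le_sup_left le_sup_right, subgroupOf_self, card_top,
      Nat.card_congr (subgroupOfEquivOfLe (le_sup_left : A ≤ A ⊔ ON)).toEquiv,
      Nat.card_congr (subgroupOfEquivOfLe (le_sup_right : ON ≤ A ⊔ ON)).toEquiv] at h2
    have h3 : Nat.card A * A.relIndex (A ⊔ ON) = Nat.card ↥(A ⊔ ON) := by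
      rw [← relIndex_bot_left, ← relIndex_bot_left]
      exact relIndex_mul_relIndex _ _ _ bot_le le_sup_left
    rw [← h3] at h2
    exact (core_odd _).of_dvd_nat (Nat.dvd_of_mul_dvd_mul_left Nat.card_pos h2)
  have h4 : Odd (A.relIndex (normalizer (A : Set G) ⊓ K)) := h1.of_dvd_nat
    ⟨_, (relIndex_mul_relIndex _ _ _ hA1 hle).symm⟩
  rw [← relIndex_mul_relIndex _ _ _ hA1 inf_le_right]
  exact h4.mul (odd_relIndex M.toPre.two_group hc hAK)

theorem flatCent_split (hM : Classes M) :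
    ∀ k ∈ M.flatCent, ∃ o ∈ core M.flatCent, ∃ a ∈ A, k = o * a :=
  burnside M.toPre.two_group M.le_flatCent
    (M.odd_relIndex_of_trivial M.le_flatCent (fun _ => M.flatCent_perm) hM.closed)
    fun n hn hnN _ ha => M.toPre.centralises_of_perm_one (n := ⟨n, hnN⟩) (M.flatCent_perm hn) ha

theorem normalizer_flat_le :
    normalizer (M.flatGroup : Set G) ≤ normalizer (M.flatCent : Set G) :=
  le_normalizer_iff.2 fun g hg x hx => by
    show g * x * g⁻¹ ∈ centralizer (M.flatGroup : Set G)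
    rw [mem_centralizer_iff]
    intro p hp
    have h := mem_centralizer_iff.1 hx _ ((mem_normalizer_iff''.1 hg p).1 hp)
    calc p * (g * x * g⁻¹) = g * ((g⁻¹ * p * g) * x) * g⁻¹ := by group
      _ = g * (x * (g⁻¹ * p * g)) * g⁻¹ := by rw [h]
      _ = g * x * g⁻¹ * p := by group

/-- The Frattini argument for the even vectors. -/
theorem frattini (hM : Classes M) {g : G} (hg : g ∈ normalizer (M.flatGroup : Set G)) :
    ∃ o ∈ core M.flatCent, ∃ n ∈ NA, g = o * n := by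
  have hB : A.map (MulAut.conj g).toMonoidHom ≤ M.flatCent := by
    rintro _ ⟨a, ha, rfl⟩
    exact (mem_normalizer_iff.1 (M.normalizer_flat_le hg) a).1 (M.le_flatCent ha)
  obtain ⟨k, hk, hkA⟩ := exists_conj_into (M.toPre.two_group.map _) hB
    (M.odd_relIndex_of_trivial M.le_flatCent (fun _ => M.flatCent_perm) hM.closed)
  obtain ⟨o, ho, a, ha, rfl⟩ := M.flatCent_split hM k hk
  refine ⟨o, ho, o⁻¹ * g, mem_normalizer_fintype fun u hu => ?_, by group⟩
  have h := mul_mem (mul_mem ha (hkA _ ⟨u, hu, rfl⟩)) (inv_mem ha)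
  show o⁻¹ * g * u * (o⁻¹ * g)⁻¹ ∈ A
  rwa [show a * ((o * a)⁻¹ * (MulAut.conj g).toMonoidHom u * (o * a)) * a⁻¹ =
    o⁻¹ * g * u * (o⁻¹ * g)⁻¹ by simp [mul_assoc]] at h

end Model

end Cfsg.Agent.StronglyClosedFour
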