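import Cfsg.Agent.Lib.StronglyClosedFour.Setup

/-!
# The three classes of involutions

With exactly three classes of involutions in the group, the involutions of the normaliser outside
`A` form one class, the classes of the natural vectors and of their pairwise products are
distinct, and `A` is strongly closed.
-/

set_option autoImplicit false
set_option linter.style.haveILetI false
set_option linter.unusedSectionVars false

namespace Cfsg.Agent.StronglyClosedFour

open Subgroup Equiv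

universe u

variable {G : Type u} [Group G] [Finite G]

namespace Model

variable {A : Subgroup G} (M : Model A)
include M

local notation "NA" => normalizer (A : Set G)
local notation "ON" => core (normalizer (A : Set G))

/-- The permutation of five points attached to an element of the normaliser. -/
abbrev perm (n : ↥(normalizer (A : Set G))) : Perm (Fin 5) := M.toPre.perm n

theorem f_inj {m k : Fin 16} (h : M.f m = M.f k) : m = k := by
  have h2 : ∀ m k : Fin 16, m ^^^ k = 0 → m = k := by decide +kernel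
  exact h2 _ _ (M.f_eq_one _ (by rw [M.f_mul, h, M.sq _ (M.f_mem k)]))

theorem commute_iff (n : ↥NA) (m : Fin 16) :
    (n : G) * M.f m = M.f m * n ↔ Masks.act (M.perm n) m = m := by
  constructor
  · intro h
    refine M.f_inj ?_
    rw [← M.f_conj n m, h, mul_inv_cancel_right]
  · intro h
    have := M.f_conj n m
    rw [show M.toPre.perm n = M.perm n from rfl, h] at this
    exact mul_inv_eq_iff_eq_mul.1 this

theorem involution_mem {z : ↥NA} (h2 : (z : G) * z = 1) (h1 : M.perm z = 1) : (z : G) ∈ A := by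
  obtain ⟨a, ha, o, ho, he⟩ := M.toPre.perm_eq_one h1
  have hc := M.toPre.comm_core ha ho
  rw [he, show a * o * (a * o) = a * (o * a) * o by group, ← hc,
    show a * (a * o) * o = a * a * (o * o) by group, M.sq a ha, one_mul] at h2
  rw [he, eq_one_of_sq (odd_orderOf_of_mem (core_odd _) ho) h2, mul_one]
  exact ha

/-- Two involutions with the same permutation differ by a fixed vector and an inverted odd
element. -/
theorem diff {z z' : ↥NA} (hz : (z : G) * z = 1) (hz' : (z' : G) * z' = 1)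
    (hp : M.perm z' = M.perm z) :
    ∃ m, Masks.act (M.perm z) m = m ∧ ∃ o ∈ ON, (z' : G) = z * M.f m * o ∧
      (z : G) * o * z = o⁻¹ := by
  have hk : M.toPre.perm (z⁻¹ * z') = 1 := by
    rw [Pre.perm_mul, Pre.perm_inv]
    exact inv_mul_eq_one.2 hp.symm
  obtain ⟨a, ha, o, ho, he⟩ := M.toPre.perm_eq_one hk
  obtain ⟨m, rfl⟩ := M.f_surj a ha
  have hzi : (z : G)⁻¹ = z := inv_eq_of_mul_eq_one_right hz
  push_cast at he
  rw [hzi] at he
  have he' : (z' : G) = z * M.f m * o := by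
    rw [mul_assoc, ← he, ← mul_assoc, hz, one_mul]
  have hA : (z : G) * M.f m * z ∈ A := by
    have := (mem_normalizer_iff.1 z.2 (M.f m)).1 ha
    rwa [hzi] at this
  have hO : (z : G) * o * z ∈ ON := by
    have := le_normalizer_iff.1 (le_normalizer_core (normalizer (A : Set G))) (z : G) z.2 o ho
    rwa [hzi] at this
  have h1 : (z : G) * M.f m * z * M.f m * ((z : G) * o * z * o) = 1 := by
    have hc1 := M.toPre.comm_core (mul_mem hA ha) hO
    calc (z : G) * M.f m * z * M.f m * ((z : G) * o * z * o)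
        = (z : G) * o * z * ((z : G) * M.f m * z * M.f m) * o := by rw [← mul_assoc, hc1]
      _ = (z : G) * (o * ((z : G) * z) * M.f m) * z * M.f m * o := by simp only [mul_assoc]
      _ = (z : G) * (M.f m * o) * z * M.f m * o := by
          rw [hz, mul_one, ← M.toPre.comm_core ha ho]
      _ = 1 := by
          rw [← hz', he']
          simp only [mul_assoc]
  have hd1 : (z : G) * M.f m * z * M.f m = 1 :=
    M.toPre.disjoint (mul_mem hA ha)
      (by rw [eq_inv_of_mul_eq_one_left h1]; exact inv_mem (mul_mem hO ho))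
  rw [hd1, one_mul] at h1
  refine ⟨m, (M.commute_iff z m).1 ?_, o, ho, he', eq_inv_of_mul_eq_one_left h1⟩
  calc (z : G) * M.f m = (z : G) * M.f m * z * M.f m * ((M.f m)⁻¹ * (z : G)⁻¹) := by group
    _ = M.f m * z := by rw [hd1, one_mul, hzi, M.toPre.inv_eq ha]

theorem outside_conj {z z' : ↥NA} (hz : (z : G) * z = 1) (hzA : (z : G) ∉ A)
    (hz' : (z' : G) * z' = 1) (hzA' : (z' : G) ∉ A) : IsConj (z : G) z' := by
  have norm : ∀ z : ↥NA, (z : G) * z = 1 → (z : G) ∉ A →
      ∃ w : ↥NA, (w : G) * w = 1 ∧ M.perm w = Masks.s₁ ∧ IsConj (z : G) w := by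
    intro z hz hzA
    have hp2 : M.perm z * M.perm z = 1 := by
      show M.toPre.perm z * M.toPre.perm z = 1
      rw [← Pre.perm_mul, show z * z = 1 from Subtype.ext hz, Pre.perm_one]
    obtain ⟨τ, hτ, hc⟩ := Masks.involution_conj _ (M.toPre.perm_sign z) hp2
      (fun h => hzA (M.involution_mem hz h))
    obtain ⟨n, hn⟩ := M.toPre.perm_lift hτ
    refine ⟨n * z * n⁻¹, ?_, ?_, isConj_iff.2 ⟨n, rfl⟩⟩
    · push_cast
      rw [show (n : G) * z * (n : G)⁻¹ * ((n : G) * z * (n : G)⁻¹) =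
        n * ((z : G) * z) * (n : G)⁻¹ by group, hz, mul_one, mul_inv_cancel]
    · show M.toPre.perm (n * z * n⁻¹) = _
      rw [Pre.perm_mul, Pre.perm_mul, Pre.perm_inv, hn]
      show τ * M.toPre.perm z * τ⁻¹ = _
      rw [hc, mul_inv_cancel_right]
  obtain ⟨w, hw, hws, hc⟩ := norm z hz hzA
  obtain ⟨w', hw', hws', hc'⟩ := norm z' hz' hzA'
  refine hc.trans (IsConj.trans ?_ hc'.symm)
  obtain ⟨m, hm, o, ho, he, hinv⟩ := M.diff hw hw' (hws'.trans hws.symm)
  obtain ⟨k, hk⟩ := Masks.s₁_fixed m (hws ▸ hm)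
  obtain ⟨j, hj⟩ := odd_orderOf_of_mem (core_odd _) ho
  have hwi : (w : G)⁻¹ = w := inv_eq_of_mul_eq_one_right hw
  set r := o ^ (j + 1) with hr
  have hrO : r ∈ ON := pow_mem ho _
  have hrr : r * r = o := by
    rw [hr, ← pow_add, show j + 1 + (j + 1) = orderOf o + 1 by omega, pow_succ, pow_orderOf_eq_one,
      one_mul]
  have hwr : (w : G) * r⁻¹ * w = r := by
    have h1 : ((w : G) * o * (w : G)⁻¹) ^ (j + 1) = (o⁻¹) ^ (j + 1) := by rw [hwi, hinv]
    rw [conj_pow, hwi, inv_pow, ← hr] at h1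
    calc (w : G) * r⁻¹ * w = ((w : G)⁻¹ * r * (w : G)⁻¹)⁻¹ := by group
      _ = r := by rw [hwi, h1, inv_inv]
  have hfk : (M.f k) * w * (M.f k)⁻¹ = w * M.f m := by
    rw [hk, ← hws, M.f_mul, ← M.f_conj w k, M.toPre.inv_eq (M.f_mem k), hwi]
    simp only [← mul_assoc, hw, one_mul]
  refine isConj_iff.2 ⟨r⁻¹ * M.f k, ?_⟩
  rw [he, show r⁻¹ * M.f k * (w : G) * (r⁻¹ * M.f k)⁻¹ = r⁻¹ * (M.f k * w * (M.f k)⁻¹) * r by group,
    hfk]
  calc r⁻¹ * ((w : G) * M.f m) * r = (w : G) * ((w : G) * r⁻¹ * w) * (M.f m * r) := by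
        rw [show (w : G) * ((w : G) * r⁻¹ * w) = ((w : G) * w) * r⁻¹ * w by group, hw, one_mul]
        group
    _ = w * (r * M.f m) * r := by rw [hwr]; group
    _ = w * (M.f m * r) * r := by rw [M.toPre.comm_core (M.f_mem m) hrO]
    _ = w * M.f m * (r * r) := by group
    _ = w * M.f m * o := by rw [hrr]

theorem pt_conj (i j : Fin 5) : IsConj (M.f (Masks.pt i)) (M.f (Masks.pt j)) := by
  have h : ∀ i j : Fin 5, ∃ σ : Perm (Fin 5), Perm.sign σ = 1 ∧ σ i = j := by decide +kernel
  obtain ⟨σ, hσ, rfl⟩ := h i j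
  obtain ⟨n, hn⟩ := M.toPre.perm_lift hσ
  refine isConj_iff.2 ⟨n, ?_⟩
  rw [M.f_conj, hn, Masks.act_pt σ hσ]

theorem pair_conj (i j : Fin 5) (hij : i ≠ j) :
    IsConj (M.f (Masks.pt i ^^^ Masks.pt j)) (M.f 3) := by
  have h : ∀ i j : Fin 5, i ≠ j → ∃ σ : Perm (Fin 5),
      Perm.sign σ = 1 ∧ Masks.act σ (Masks.pt i ^^^ Masks.pt j) = 3 := by decide +kernel
  obtain ⟨σ, hσ, he⟩ := h i j hij
  obtain ⟨n, hn⟩ := M.toPre.perm_lift hσ
  exact isConj_iff.2 ⟨n, by rw [M.f_conj, hn, he]⟩

theorem mem_cases {a : G} (ha : a ∈ A) (ha1 : a ≠ 1) :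
    IsConj a (M.f 1) ∨ IsConj a (M.f 3) := by
  obtain ⟨m, rfl⟩ := M.f_surj a ha
  rcases Masks.cover m with rfl | ⟨i, rfl⟩ | ⟨i, j, hij, rfl⟩
  · exact absurd M.f_zero ha1
  · exact Or.inl (M.pt_conj i 0)
  · exact Or.inr (M.pair_conj i j hij)

theorem orderOf_f {m : Fin 16} (hm : m ≠ 0) : orderOf (M.f m) = 2 :=
  Involutions.Basic.orderOf_two_iff.2 ⟨M.sq _ (M.f_mem m), fun h => hm (M.f_eq_one m h)⟩

end Model

/-- The consequences of having exactly three classes of involutions. -/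
structure Classes {A : Subgroup G} (M : Model A) : Prop where
  outer : ∃ z : ↥(normalizer (A : Set G)), (z : G) * z = 1 ∧ (z : G) ∉ A
  not_conj : ¬ IsConj (M.f 1) (M.f 3)
  closed : ∀ g : G, ∀ u ∈ A, g * u * g⁻¹ ∈ normalizer (A : Set G) → g * u * g⁻¹ ∈ A

theorem Model.classes {A : Subgroup G} (M : Model A)
    (h3 : Nat.card {c : ConjClasses G // ∃ x ∈ c.carrier, orderOf x = 2} = 3) : Classes M := by
  classical
  haveI : Fact (Nat.Prime 2) := ⟨Nat.prime_two⟩
  have hNK : Odd ((normalizer (A : Set G)).relIndex (⊤ : Subgroup G)) := by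
    rw [relIndex_top_right]; exact M.toPre.odd_index
  have into : ∀ x : G, orderOf x = 2 → ∃ y : ↥(normalizer (A : Set G)),
      IsConj x y ∧ (y : G) * y = 1 ∧ (y : G) ≠ 1 := by
    intro x hx
    obtain ⟨hx2, hx1⟩ := Involutions.Basic.orderOf_two_iff.1 hx
    obtain ⟨k, -, hk⟩ := exists_conj_into_involution hx2 (mem_top x) hNK
    refine ⟨⟨_, hk⟩, isConj_iff.2 ⟨k⁻¹, by group⟩, ?_, fun h => hx1 ?_⟩
    · show k⁻¹ * x * k * (k⁻¹ * x * k) = 1
      rw [show k⁻¹ * x * k * (k⁻¹ * x * k) = k⁻¹ * (x * x) * k by group, hx2, mul_one,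
        inv_mul_cancel]
    · replace h : k⁻¹ * x * k = 1 := h
      calc x = k * (k⁻¹ * x * k) * k⁻¹ := by group
        _ = 1 := by rw [h, mul_one, mul_inv_cancel]
  have two_false : ∀ p q : G,
      (∀ x : G, orderOf x = 2 → IsConj x p ∨ IsConj x q) → False := by
    intro p q hcov
    have hle : Nat.card {c : ConjClasses G // ∃ x ∈ c.carrier, orderOf x = 2} ≤
        Nat.card ↥({ConjClasses.mk p, ConjClasses.mk q} : Set (ConjClasses G)) := by
      refine Nat.card_le_card_of_injective (fun c => ⟨c.1, ?_⟩)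
        (fun c d h => Subtype.ext (Subtype.mk.inj h))
      obtain ⟨x, hx, hox⟩ := c.2
      rw [ConjClasses.mem_carrier_iff_mk_eq] at hx
      rcases hcov x hox with h | h
      · left; rw [← hx]; exact ConjClasses.mk_eq_mk_iff_isConj.2 h
      · right; rw [Set.mem_singleton_iff, ← hx]; exact ConjClasses.mk_eq_mk_iff_isConj.2 h
    rw [h3, Nat.card_coe_set_eq] at hle
    have := Set.ncard_insert_le (ConjClasses.mk p) ({ConjClasses.mk q} : Set (ConjClasses G))
    rw [Set.ncard_singleton] at this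
    omega
  have pair_le : ∀ x : G, orderOf x = 2 → ∀ y : ↥(normalizer (A : Set G)), IsConj x y →
      (y : G) ≠ 1 → (y : G) ∈ A → IsConj x (M.f 1) ∨ IsConj x (M.f 3) := by
    intro x _ y hxy hy1 hyA
    rcases M.mem_cases hyA hy1 with h | h
    · exact Or.inl (hxy.trans h)
    · exact Or.inr (hxy.trans h)
  obtain ⟨z, hz, hzA⟩ : ∃ z : ↥(normalizer (A : Set G)), (z : G) * z = 1 ∧ (z : G) ∉ A := by
    by_contra hno
    push Not at hno
    refine two_false (M.f 1) (M.f 3) fun x hx => ?_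
    obtain ⟨y, hxy, hy, hy1⟩ := into x hx
    exact pair_le x hx y hxy hy1 (hno y hy)
  have cover : ∀ x : G, orderOf x = 2 → IsConj x (M.f 1) ∨ IsConj x (M.f 3) ∨ IsConj x z := by
    intro x hx
    obtain ⟨y, hxy, hy, hy1⟩ := into x hx
    by_cases hyA : (y : G) ∈ A
    · exact (pair_le x hx y hxy hy1 hyA).imp_right Or.inl
    · exact Or.inr (Or.inr (hxy.trans (M.outside_conj hy hyA hz hzA)))
  refine ⟨⟨z, hz, hzA⟩, fun h => two_false (M.f 1) z fun x hx => ?_, ?_⟩
  · rcases cover x hx with h1 | h1 | h1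
    · exact Or.inl h1
    · exact Or.inl (h1.trans h.symm)
    · exact Or.inr h1
  intro g u hu hgu
  rcases eq_or_ne u 1 with rfl | hu1
  · simp
  by_contra hout
  have hgu2 : g * u * g⁻¹ * (g * u * g⁻¹) = 1 := by
    rw [show g * u * g⁻¹ * (g * u * g⁻¹) = g * (u * u) * g⁻¹ by group, M.sq u hu, mul_one,
      mul_inv_cancel]
  have huz : IsConj u (z : G) :=
    (isConj_iff.2 ⟨g, rfl⟩).trans (M.outside_conj (z := ⟨_, hgu⟩) hgu2 hout hz hzA)
  rcases M.mem_cases hu hu1 with h | h
  · refine two_false (M.f 1) (M.f 3) fun x hx => ?_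
    rcases cover x hx with h1 | h1 | h1
    · exact Or.inl h1
    · exact Or.inr h1
    · exact Or.inl (h1.trans (huz.symm.trans h))
  · refine two_false (M.f 1) (M.f 3) fun x hx => ?_
    rcases cover x hx with h1 | h1 | h1
    · exact Or.inl h1
    · exact Or.inr h1
    · exact Or.inr (h1.trans (huz.symm.trans h))

end Cfsg.Agent.StronglyClosedFour
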