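import Mathlib

/-!
# The deleted permutation module of the alternating group of degree five, as bit masks
-/

set_option autoImplicit false
set_option maxRecDepth 100000

namespace Cfsg.Agent.StronglyClosedFour.Masks

open Equiv

/-- The five natural vectors. -/
def pt : Fin 5 → Fin 16 := ![1, 2, 4, 8, 15]

/-- The coordinates. -/
def bit (m : Fin 16) (k : Fin 4) : Bool := Nat.testBit m.val k.val

/-- Select a value. -/
def pick (b : Bool) (v : Fin 16) : Fin 16 := if b then v else 0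

/-- The action of a permutation. -/
def act (σ : Perm (Fin 5)) (m : Fin 16) : Fin 16 :=
  pick (bit m 0) (pt (σ 0)) ^^^ (pick (bit m 1) (pt (σ 1)) ^^^
    (pick (bit m 2) (pt (σ 2)) ^^^ pick (bit m 3) (pt (σ 3))))

/-- Even weight vectors in the first four coordinates. -/
def flat : List (Fin 16) := [0, 3, 5, 6, 9, 10, 12, 15]

/-- The involution fixing the last point and pairing `0, 1`. -/
def s₁ : Perm (Fin 5) := swap 0 1 * swap 2 3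

/-- The involution fixing the last point and pairing `0, 2`. -/
def s₂ : Perm (Fin 5) := swap 0 2 * swap 1 3

/-- The involution fixing the last point and pairing `0, 3`. -/
def s₃ : Perm (Fin 5) := swap 0 3 * swap 1 2

/-- The three-cycle on `0, 1, 2`. -/
def c₃ : Perm (Fin 5) := swap 0 1 * swap 1 2

/-- The five-cycle. -/
def c₅ : Perm (Fin 5) := swap 0 1 * swap 1 2 * (swap 2 3 * swap 3 4)

theorem bit_xor : ∀ m k : Fin 16, ∀ i : Fin 4, bit (m ^^^ k) i = xor (bit m i) (bit k i) := by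
  decide +kernel

theorem xor_self : ∀ m : Fin 16, m ^^^ m = 0 := by decide +kernel

theorem pt_bits : ∀ i : Fin 5, (i = 4 ∧ ∀ k : Fin 4, bit (pt i) k = true) ∨
    (∀ k : Fin 4, bit (pt i) k = decide (k.val = i.val)) ∧ i ≠ 4 := by
  decide +kernel

theorem bit_zero : ∀ k : Fin 4, bit 0 k = false := by decide +kernel

theorem cover : ∀ m : Fin 16, m = 0 ∨ (∃ i, m = pt i) ∨ ∃ i j, i ≠ j ∧ m = pt i ^^^ pt j := by
  decide +kernel

theorem stab_gen : ∀ σ : Perm (Fin 5), Perm.sign σ = 1 → σ 4 = 4 →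
    ∃ v ∈ [1, s₁, s₂, s₃], σ = v ∨ σ = v * c₃ ∨ σ = v * (c₃ * c₃) := by
  decide +kernel

theorem reach : ∀ i j : Fin 5, i ≠ 4 → j ≠ 4 → ∃ v ∈ [1, s₁, s₂, s₃], v i = j := by
  decide +kernel

theorem signs : Perm.sign s₁ = 1 ∧ Perm.sign s₂ = 1 ∧ Perm.sign s₃ = 1 ∧ Perm.sign c₃ = 1 ∧
    Perm.sign c₅ = 1 := by decide +kernel

theorem fixes_four : s₁ 4 = 4 ∧ s₂ 4 = 4 ∧ s₃ 4 = 4 ∧ c₃ 4 = 4 := by decide +kernel

theorem c₅_apply : c₅ 0 = 1 ∧ c₅ 1 = 2 ∧ c₅ 2 = 3 ∧ c₅ 3 = 4 ∧ c₅ 4 = 0 ∧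
    (c₅ ≠ 1 ∧ c₅ ^ 5 = 1) := by decide +kernel

/-- The elements of the standard four-group. -/
theorem four_spec : s₁ ≠ 1 ∧ s₂ ≠ 1 ∧ s₃ ≠ 1 ∧ s₁ ≠ s₂ ∧ s₁ ≠ s₃ ∧ s₂ ≠ s₃ ∧ s₁ * s₁ = 1 ∧
    s₂ * s₂ = 1 ∧ s₃ * s₃ = 1 ∧ s₁ * s₂ = s₃ ∧ s₂ * s₁ = s₃ ∧ s₁ * s₃ = s₂ ∧ s₃ * s₁ = s₂ ∧
    s₂ * s₃ = s₁ ∧ s₃ * s₂ = s₁ := by decide +kernel

theorem c₃_spec : c₃ * s₁ * c₃⁻¹ ∈ [s₁, s₂, s₃] ∧ c₃ * s₂ * c₃⁻¹ ∈ [s₁, s₂, s₃] ∧
    c₃ * s₃ * c₃⁻¹ ∈ [s₁, s₂, s₃] ∧ c₃ * c₃ * c₃ = 1 := by decide +kernel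

/-- All involutions of the alternating group are conjugate. -/
theorem involution_conj : ∀ σ : Perm (Fin 5), Perm.sign σ = 1 → σ * σ = 1 → σ ≠ 1 →
    ∃ τ : Perm (Fin 5), Perm.sign τ = 1 ∧ τ * σ = s₁ * τ := by
  decide +kernel

theorem s₁_fixed : ∀ m : Fin 16, act s₁ m = m → ∃ k : Fin 16, m = act s₁ k ^^^ k := by
  decide +kernel

theorem faithful : ∀ σ : Perm (Fin 5), Perm.sign σ = 1 → (∀ m : Fin 16, act σ m = m) → σ = 1 := by
  decide +kernel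

theorem act_one : ∀ m : Fin 16, act 1 m = m := by decide +kernel

theorem act_pt : ∀ σ : Perm (Fin 5), Perm.sign σ = 1 → ∀ i : Fin 5, act σ (pt i) = pt (σ i) := by
  decide +kernel

theorem pt_ne : ∀ i : Fin 5, pt i ≠ 0 := by decide +kernel

theorem pt_injective : ∀ i j : Fin 5, pt i = pt j → i = j := by decide +kernel

end Cfsg.Agent.StronglyClosedFour.Masks
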