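import Cfsg.Agent.Lib.StronglyClosedFour.Point
import Cfsg.Agent.Lib.ZStar.Main

/-!
# The centralisers of all involutions of `A`
-/

set_option autoImplicit false
set_option linter.style.haveILetI false
set_option linter.unusedSectionVars false
set_option maxRecDepth 100000
set_option maxHeartbeats 1000000
set_option synthInstance.maxSize 1024
set_option synthInstance.maxHeartbeats 200000

namespace Cfsg.Agent.StronglyClosedFour

open Subgroup Equiv
open scoped Pointwise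

universe u

variable {G : Type u} [Group G] [Finite G]

theorem conj_mem_cent {g u x : G} (hx : x ∈ centralizer ({u} : Set G)) :
    g * x * g⁻¹ ∈ centralizer ({g * u * g⁻¹} : Set G) := by
  rw [mem_centralizer_singleton_iff] at hx ⊢
  calc g * x * g⁻¹ * (g * u * g⁻¹) = g * (x * u) * g⁻¹ := by group
    _ = g * (u * x) * g⁻¹ := by rw [hx]
    _ = g * u * g⁻¹ * (g * x * g⁻¹) := by group

namespace Model

variable {A : Subgroup G} (M : Model A)
include M

local notation "NA" => normalizer (A : Set G)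
local notation "ON" => core (normalizer (A : Set G))
local notation "C[" m "]" => centralizer ({M.f m} : Set G)

theorem good_of_conj {m : Fin 16} (n : ↥NA) (hg : Good A C[m]) :
    Good A C[Masks.act (M.perm n) m] := by
  have he : (n : G) * M.f m * (n : G)⁻¹ = M.f (Masks.act (M.perm n) m) := M.f_conj n m
  have h1 : ∀ x, x ∈ C[m] → (n : G) * x * (n : G)⁻¹ ∈ C[Masks.act (M.perm n) m] := fun x hx => by
    rw [← he]; exact conj_mem_cent hx
  have h2 : ∀ x, x ∈ C[Masks.act (M.perm n) m] → (n : G)⁻¹ * x * n ∈ C[m] := fun x hx => by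
    have h := conj_mem_cent (g := (n : G)⁻¹) hx
    rw [← he, show (n : G)⁻¹ * ((n : G) * M.f m * (n : G)⁻¹) * (n : G)⁻¹⁻¹ = M.f m by group,
      inv_inv] at h
    exact h
  intro k hk
  obtain ⟨o, ho, w, hw, he'⟩ := hg _ (h2 k hk)
  refine ⟨(n : G) * o * (n : G)⁻¹, conj_mem_core h1 h2 ho, (n : G) * w * (n : G)⁻¹,
    mul_mem (mul_mem n.2 hw) (inv_mem n.2), ?_⟩
  calc k = (n : G) * ((n : G)⁻¹ * k * n) * (n : G)⁻¹ := by group
    _ = _ := by rw [he']; group

theorem good_pt (hM : Classes M) (i : Fin 5) : Good A C[Masks.pt i] := by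
  have h : ∀ i : Fin 5, ∃ σ : Perm (Fin 5), Perm.sign σ = 1 ∧ σ 4 = i := by decide +kernel
  obtain ⟨σ, hσ, hi⟩ := h i
  obtain ⟨n, hn⟩ := M.toPre.perm_lift hσ
  have h2 := M.good_of_conj (m := Masks.pt 4) n (M.good_point hM)
  rw [show M.perm n = σ from hn, Masks.act_pt σ hσ, hi] at h2
  exact h2

/-- Goodness passes to the centraliser of a second vector. -/
theorem good_two (hM : Classes M) : Good A (C[1] ⊓ C[2]) := by
  intro k hk
  obtain ⟨hk1, hk2⟩ := mem_inf.1 hk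
  obtain ⟨o, ho, n, hn, rfl⟩ := M.good_pt hM 0 k hk1
  have ho1 : o ∈ C[1] := core_le _ ho
  set a := n * M.f 2 * n⁻¹ with ha
  have haA : a ∈ A := (mem_normalizer_iff.1 hn _).1 (M.f_mem 2)
  have hk2' := mem_centralizer_singleton_iff.1 hk2
  have hrel : a * M.f 2 = o⁻¹ * (M.f 2 * o * M.f 2) := by
    calc a * M.f 2 = o⁻¹ * (o * n * M.f 2) * n⁻¹ * M.f 2 := by rw [ha]; group
      _ = o⁻¹ * (M.f 2 * (o * n)) * n⁻¹ * M.f 2 := by rw [hk2']
      _ = o⁻¹ * (M.f 2 * o * M.f 2) := by group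
  have hmem : o⁻¹ * (M.f 2 * o * M.f 2) ∈ core C[1] := by
    refine mul_mem (inv_mem ho) ?_
    have := le_normalizer_iff.1 (le_normalizer_core C[1]) _ (M.le_cent 1 (M.f_mem 2)) o ho
    rwa [M.toPre.inv_eq (M.f_mem 2)] at this
  have hone := eq_one_of_two_group (core_odd _) M.toPre.two_group hmem
    (hrel ▸ mul_mem haA (M.f_mem 2))
  have ha2 : a = M.f 2 := by
    rw [← hrel] at hone
    rw [eq_inv_of_mul_eq_one_left hone, M.toPre.inv_eq (M.f_mem 2)]
  have hn2 : n ∈ C[2] := mem_centralizer_singleton_iff.2 (mul_inv_eq_iff_eq_mul.1 ha2)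
  have ho2 : o ∈ C[2] := by
    have := mul_mem hk2 (inv_mem hn2)
    rwa [mul_inv_cancel_right] at this
  have hX : core C[1] ⊓ C[2] ≤ core (C[1] ⊓ C[2]) := le_core
    (le_inf (inf_le_left.trans (core_le _)) inf_le_right)
    (le_normalizer_iff.2 fun h hh x hx => mem_inf.2
      ⟨le_normalizer_iff.1 (le_normalizer_core _) h hh.1 x hx.1,
        mul_mem (mul_mem hh.2 hx.2) (inv_mem hh.2)⟩)
    ((core_odd C[1]).of_dvd_nat (card_dvd_of_le inf_le_left))
  exact ⟨o, hX (mem_inf.2 ⟨ho, ho2⟩), n, hn, rfl⟩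

theorem good_pair (hM : Classes M) : Good A C[3] := by
  haveI : Fact (Nat.Prime 2) := ⟨Nat.prime_two⟩
  set H := C[3] with hH
  set L := C[1] ⊓ C[2] with hL
  have h12 : M.f 1 * M.f 2 = M.f 3 := by rw [← M.f_mul]; rfl
  have hLH : L ≤ H := fun x hx => by
    have h1 := mem_centralizer_singleton_iff.1 hx.1
    have h2 := mem_centralizer_singleton_iff.1 hx.2
    refine mem_centralizer_singleton_iff.2 ?_
    rw [← h12]
    exact ((show Commute x (M.f 1) from h1).mul_right h2).eq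
  have hAH : A ≤ H := M.le_cent 3
  -- a Sylow subgroup of `H` containing `A`
  obtain ⟨S, hS⟩ := (M.toPre.two_group.of_equiv (subgroupOfEquivOfLe hAH).symm :
    IsPGroup 2 ↥(A.subgroupOf H)).exists_le_sylow
  set T := (S : Subgroup ↥H).map H.subtype with hT
  have hTp : IsPGroup 2 T := S.2.map _
  have hTH : T ≤ H := map_subtype_le (S : Subgroup ↥H)
  have hAT : A ≤ T := fun a ha => ⟨⟨a, hAH ha⟩, hS ha, rfl⟩
  have hTodd : Odd (T.relIndex H) := by
    rw [Subgroup.relIndex, hT, Subgroup.subgroupOf,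
      comap_map_eq_self_of_injective H.subtype_injective, Nat.odd_iff]
    have := S.not_dvd_index
    omega
  have hTN : T ≤ NA := by
    have h1 := odd_relIndex M.toPre.two_group hM.closed hAT
    obtain ⟨j, hj⟩ := IsPGroup.iff_card.1 hTp
    have h2 : (normalizer (A : Set G) ⊓ T).relIndex T ∣ 2 ^ j := hj ▸ relIndex_dvd_card _ _
    have h3 : (normalizer (A : Set G) ⊓ T).relIndex T = 1 :=
      Nat.eq_one_of_dvd_coprimes (h1.coprime_two_right.pow_right j) dvd_rfl h2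
    exact (relIndex_eq_one.1 h3).trans inf_le_left
  have hTker : ∀ t : ↥NA, (t : G) ∈ T → M.perm t = 1 → (t : G) ∈ A := by
    intro t ht h1
    obtain ⟨a, ha, o, ho, he⟩ := M.toPre.perm_eq_one h1
    have hoT : o ∈ T := by
      rw [show o = a⁻¹ * t by rw [he]; group]
      exact mul_mem (inv_mem (hAT ha)) ht
    rw [he, eq_one_of_two_group (core_odd _) hTp ho hoT, mul_one]
    exact ha
  -- stabiliser facts
  have hstab : ∀ n : ↥NA, (n : G) ∈ H → Masks.act (M.perm n) 3 = 3 := fun n hn =>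
    (M.commute_iff n 3).1 (mem_centralizer_singleton_iff.1 hn)
  have hsix : ∀ σ : Perm (Fin 5), Perm.sign σ = 1 → Masks.act σ 3 = 3 → σ ^ 6 = 1 ∧
      (σ ^ 3 = 1 → σ 0 = 0 ∧ σ 1 = 1) ∧
      ((Masks.act σ 1 = 1 ∧ Masks.act σ 2 = 2) ∨ (Masks.act σ 1 = 2 ∧ Masks.act σ 2 = 1)) := by
    decide +kernel
  have hTinvol : ∀ t : ↥NA, (t : G) ∈ T → M.perm t * M.perm t = 1 := by
    intro t ht
    obtain ⟨j, hj⟩ := hTp ⟨(t : G), ht⟩
    have h1 : M.perm t ^ 2 ^ j = 1 := by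
      have h2 : t ^ 2 ^ j = 1 := Subtype.ext (by
        have := congrArg Subtype.val hj
        simpa using this)
      show ((M.toPre.π t : Perm (Fin 5))) ^ 2 ^ j = 1
      rw [← SubmonoidClass.coe_pow, ← map_pow, h2, map_one]; rfl
    obtain ⟨h6, -, -⟩ := hsix _ (M.toPre.perm_sign t) (hstab t (hTH ht))
    rw [← pow_two]
    refine orderOf_dvd_iff_pow_eq_one.1 ?_
    obtain ⟨i, hi, he⟩ := (Nat.dvd_prime_pow Nat.prime_two).1 (orderOf_dvd_of_pow_eq_one h1)
    have h6' := orderOf_dvd_of_pow_eq_one h6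
    rw [he] at h6' ⊢
    rcases i with _ | _ | i
    · exact one_dvd _
    · exact dvd_rfl
    · exfalso
      have h4 : 4 ∣ 6 := dvd_trans ⟨2 ^ i, by ring⟩ h6'
      norm_num at h4
  have htwo : ∀ σ : Perm (Fin 5), Perm.sign σ = 1 → Masks.act σ 3 = 3 → σ * σ = 1 → σ ≠ 1 →
      σ = Masks.s₁ ∨ σ = swap (0 : Fin 5) 1 * swap 2 4 ∨ σ = swap (0 : Fin 5) 1 * swap 3 4 := by
    decide +kernel
  have hprod : ∀ σ : Perm (Fin 5),
      (σ = Masks.s₁ ∨ σ = swap (0 : Fin 5) 1 * swap 2 4 ∨ σ = swap (0 : Fin 5) 1 * swap 3 4) →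
      ∀ τ : Perm (Fin 5),
      (τ = Masks.s₁ ∨ τ = swap (0 : Fin 5) 1 * swap 2 4 ∨ τ = swap (0 : Fin 5) 1 * swap 3 4) →
      σ * τ⁻¹ * (σ * τ⁻¹) = 1 → σ = τ := by
    rintro σ (rfl | rfl | rfl) τ (rfl | rfl | rfl) <;> decide +kernel
  obtain ⟨K₀, hK₀H, hK₀n, hK₀T, hAK₀, hAodd, ⟨e, hK₀rel⟩, hsplit⟩ :=
    transfer hTp hTH hTodd hAT
      (fun t ht a ha => (mem_normalizer_iff.1 (hTN ht) a).1 ha)
      (fun a ha b hb g _ hgab => by
        by_cases haA : a ∈ A
        · have hbA : b ∈ A := hgab ▸ hM.closed g a haA (hgab.symm ▸ hTN hb)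
          exact mul_mem haA (inv_mem hbA)
        have hbA : b ∉ A := fun hbA => haA (by
          have h := hM.closed g⁻¹ b hbA
          rw [show g⁻¹ * b * g⁻¹⁻¹ = a by rw [← hgab]; group] at h
          exact h (hTN ha))
        let a' : ↥NA := ⟨a, hTN ha⟩
        let b' : ↥NA := ⟨b, hTN hb⟩
        have hperm : M.perm (a' * b'⁻¹) = M.perm a' * (M.perm b')⁻¹ := by
          show M.toPre.perm _ = _
          rw [Pre.perm_mul, Pre.perm_inv]
        have heq := hprod (M.perm a')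
          (htwo _ (M.toPre.perm_sign _) (hstab a' (hTH ha)) (hTinvol a' ha)
            (fun h => haA (hTker a' ha h))) (M.perm b')
          (htwo _ (M.toPre.perm_sign _) (hstab b' (hTH hb)) (hTinvol b' hb)
            (fun h => hbA (hTker b' hb h)))
          (by rw [← hperm]; exact hTinvol _ (mul_mem ha (inv_mem hb)))
        exact hTker (a' * b'⁻¹) (mul_mem ha (inv_mem hb))
          (by rw [hperm, heq, mul_inv_cancel]))
  -- the normaliser in `K₀` fixes both vectors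
  have hfix : ∀ n : ↥NA, (n : G) ∈ K₀ → (n : G) * M.f 1 = M.f 1 * n := by
    intro n hn
    let U := normalizer (A : Set G) ⊓ K₀
    haveI : (A.subgroupOf U).Normal := normal_subgroupOf_of_le_normalizer inf_le_left
    have hU : Odd (A.relIndex U) := by
      refine hAodd.of_dvd_nat ⟨_, (relIndex_mul_relIndex A U K₀ ?_ inf_le_right).symm⟩
      exact le_inf Subgroup.le_normalizer hAK₀
    have hpow : (n : G) ^ A.relIndex U ∈ A := by
      have h := pow_index_mem (A.subgroupOf U) (⟨n, mem_inf.2 ⟨n.2, hn⟩⟩ : ↥U)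
      exact h
    have h1 : M.perm n ^ A.relIndex U = 1 := by
      have h2 : M.toPre.perm (n ^ A.relIndex U) = 1 := M.toPre.perm_of_mem (Or.inl hpow)
      rw [Pre.perm, map_pow, SubmonoidClass.coe_pow] at h2
      exact h2
    obtain ⟨h6, h3, -⟩ := hsix _ (M.toPre.perm_sign n) (hstab n (hK₀H hn))
    have h3' : M.perm n ^ 3 = 1 := by
      refine orderOf_dvd_iff_pow_eq_one.1 ?_
      have hodd : Odd (orderOf (M.perm n)) := hU.of_dvd_nat (orderOf_dvd_of_pow_eq_one h1)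
      exact (hodd.coprime_two_right).dvd_of_dvd_mul_left
        (show orderOf (M.perm n) ∣ 2 * 3 from orderOf_dvd_of_pow_eq_one h6)
    refine (M.commute_iff n 1).2 ?_
    rw [show (1 : Fin 16) = Masks.pt 0 from rfl, Masks.act_pt _ (M.toPre.perm_sign n),
      (h3 h3').1]
  -- fusion of `f 1` into `A` inside `K₀`
  have hfus : ∀ g ∈ K₀, g * M.f 1 * g⁻¹ ∈ A → g * M.f 1 * g⁻¹ = M.f 1 := by
    intro g hg hgA
    set v := g * M.f 1 * g⁻¹ with hv
    set D := centralizer ({v} : Set G) ⊓ K₀ with hD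
    have hAD : A ≤ D := le_inf (fun a ha =>
      mem_centralizer_singleton_iff.2 (M.toPre.comm ha hgA)) hAK₀
    have hB : A.map (MulAut.conj g).toMonoidHom ≤ D := by
      rintro _ ⟨a, ha, rfl⟩
      exact mem_inf.2 ⟨conj_mem_cent (M.le_cent 1 ha),
        mul_mem (mul_mem hg (hAK₀ ha)) (inv_mem hg)⟩
    have hAD' : Odd (A.relIndex D) :=
      hAodd.of_dvd_nat ⟨_, (relIndex_mul_relIndex A D K₀ hAD inf_le_right).symm⟩
    obtain ⟨c, hc, hcA⟩ := exists_conj_into (M.toPre.two_group.map _) hB hAD'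
    have hn : c⁻¹ * g ∈ NA := mem_normalizer_fintype fun u hu => by
      have := hcA _ ⟨u, hu, rfl⟩
      show c⁻¹ * g * u * (c⁻¹ * g)⁻¹ ∈ A
      rwa [show c⁻¹ * (MulAut.conj g).toMonoidHom u * c = c⁻¹ * g * u * (c⁻¹ * g)⁻¹ by
        simp [mul_assoc]] at this
    have hfix' := hfix ⟨_, hn⟩ (mul_mem (inv_mem hc.2) hg)
    have hcv : c * v = v * c := mem_centralizer_singleton_iff.1 hc.1
    calc v = c⁻¹ * (v * c) := by rw [← hcv, inv_mul_cancel_left]
      _ = (c⁻¹ * g) * M.f 1 * (c⁻¹ * g)⁻¹ := by rw [hv]; group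
      _ = M.f 1 := mul_inv_eq_iff_eq_mul.2 hfix'
  -- isolation
  set z : ↥K₀ := ⟨M.f 1, hAK₀ (M.f_mem 1)⟩ with hz
  have hzo : orderOf z = 2 := by
    rw [hz, Subgroup.orderOf_mk]; exact M.orderOf_f (by decide)
  have hiso : Cfsg.IsIsolatedInvolution z := by
    refine ⟨hzo, fun g hg => ?_⟩
    set u := (g : G) * M.f 1 * (g : G)⁻¹ with hu
    have hcm : M.f 1 * u = u * M.f 1 := congrArg Subtype.val hg
    have hu2 : u * u = 1 := by
      rw [hu, show (g : G) * M.f 1 * (g : G)⁻¹ * ((g : G) * M.f 1 * (g : G)⁻¹) =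
        g * (M.f 1 * M.f 1) * (g : G)⁻¹ by group, M.sq _ (M.f_mem 1), mul_one, mul_inv_cancel]
    have hzp : ∀ t : G, t * t = 1 → IsPGroup 2 (zpowers t) := fun t ht x => ⟨1, Subtype.ext (by
      show (x : G) ^ 2 ^ 1 = 1
      rcases mem_zpowers_involution ht x.2 with h | h <;> rw [h] <;> simp [pow_two, ht])⟩
    have hnorm : zpowers u ≤ normalizer (zpowers (M.f 1) : Set G) := zpowers_le.2
      (mem_normalizer_fintype fun t ht => by
        show u * t * u⁻¹ ∈ zpowers (M.f 1)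
        rcases mem_zpowers_involution (M.sq _ (M.f_mem 1)) ht with rfl | rfl
        · simp
        · rw [← hcm, mul_inv_cancel_right]; exact mem_zpowers _)
    have hB := (hzp u hu2).to_sup_of_normal_right' (hzp _ (M.sq _ (M.f_mem 1))) hnorm
    obtain ⟨k, hk, hkA⟩ := exists_conj_into hB (sup_le
      (zpowers_le.2 (mul_mem (mul_mem g.2 (hAK₀ (M.f_mem 1))) (inv_mem g.2)))
      (zpowers_le.2 (hAK₀ (M.f_mem 1)))) hAodd
    have h1 := hkA _ (mem_sup_right (mem_zpowers _))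
    have h2 := hkA _ (mem_sup_left (mem_zpowers _))
    have e1 : k⁻¹ * M.f 1 * k = M.f 1 := by
      have := hfus k⁻¹ (inv_mem hk)
      rw [inv_inv] at this
      exact this h1
    have e2 : k⁻¹ * u * k = M.f 1 := by
      have := hfus (k⁻¹ * g) (mul_mem (inv_mem hk) g.2)
      rw [show k⁻¹ * (g : G) * M.f 1 * (k⁻¹ * (g : G))⁻¹ = k⁻¹ * u * k by rw [hu]; group] at this
      exact this h2
    apply Subtype.ext
    show u = M.f 1
    calc u = k * (k⁻¹ * u * k) * k⁻¹ := by group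
      _ = k * (k⁻¹ * M.f 1 * k) * k⁻¹ := by rw [e1, e2]
      _ = M.f 1 := by group
  -- `K₀` is the product of its core and the centraliser of `f 1`
  have hK₀split : ∀ g ∈ K₀, ∃ s ∈ core K₀, ∃ c ∈ K₀, c ∈ L ∧ g = s * c := by
    intro g hg
    have hr := ZStar.Main.commutator_mem_oddCore hiso ⟨g, hg⟩
    have hr' : M.f 1 * g * (M.f 1)⁻¹ * g⁻¹ ∈ core K₀ := ⟨_, hr, rfl⟩
    rw [M.toPre.inv_eq (M.f_mem 1)] at hr'
    set r := g * M.f 1 * g⁻¹ * M.f 1 with hr_def
    have hrR : r ∈ core K₀ := by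
      have := inv_mem hr'
      rwa [show (M.f 1 * g * M.f 1 * g⁻¹)⁻¹ = r by
        rw [hr_def, mul_inv_rev, mul_inv_rev, mul_inv_rev, inv_inv, M.toPre.inv_eq (M.f_mem 1)]
        group] at this
    obtain ⟨j, hj⟩ := odd_orderOf_of_mem (core_odd _) hrR
    set s := r ^ (j + 1) with hs
    have hss : s * s = r := by
      rw [hs, ← pow_add, show j + 1 + (j + 1) = orderOf r + 1 by omega, pow_succ, pow_orderOf_eq_one,
        one_mul]
    have hinv : M.f 1 * r * (M.f 1)⁻¹ = r⁻¹ := by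
      rw [hr_def, mul_inv_rev, mul_inv_rev, mul_inv_rev, inv_inv, M.toPre.inv_eq (M.f_mem 1),
        show M.f 1 * (g * M.f 1 * g⁻¹ * M.f 1) * M.f 1 =
          M.f 1 * (g * M.f 1 * g⁻¹) * (M.f 1 * M.f 1) by group, M.sq _ (M.f_mem 1), mul_one]
      group
    have hsinv : M.f 1 * s * (M.f 1)⁻¹ = s⁻¹ := by rw [hs, ← conj_pow, hinv, inv_pow]
    have hconj : s * M.f 1 * s⁻¹ = g * M.f 1 * g⁻¹ := by
      have h1 : M.f 1 * s⁻¹ = s * M.f 1 := by
        rw [← hsinv]
        simp only [← mul_assoc, M.sq _ (M.f_mem 1), one_mul, M.toPre.inv_eq (M.f_mem 1)]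
      rw [mul_assoc, h1, ← mul_assoc, hss, hr_def, mul_assoc, M.sq _ (M.f_mem 1), mul_one]
    have hsK : s ∈ core K₀ := pow_mem hrR _
    have hcK : s⁻¹ * g ∈ K₀ := mul_mem (inv_mem (core_le K₀ hsK)) hg
    have hc1 : s⁻¹ * g ∈ C[1] := mem_centralizer_singleton_iff.2 (by
      calc s⁻¹ * g * M.f 1 = s⁻¹ * (g * M.f 1 * g⁻¹) * g := by group
        _ = s⁻¹ * (s * M.f 1 * s⁻¹) * g := by rw [hconj]
        _ = M.f 1 * (s⁻¹ * g) := by group)
    refine ⟨s, hsK, s⁻¹ * g, hcK, mem_inf.2 ⟨hc1, ?_⟩, by group⟩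
    have h2 : M.f 2 = M.f 1 * M.f 3 := by rw [← M.f_mul]; rfl
    rw [h2]
    exact mem_centralizer_singleton_iff.2
      ((show Commute (s⁻¹ * g) (M.f 1) from mem_centralizer_singleton_iff.1 hc1).mul_right
        (mem_centralizer_singleton_iff.1 (hK₀H hcK))).eq
  -- the odd core
  have hLK : core L ≤ K₀ := fun o ho => odd_mem_of_index_two hK₀n hK₀rel
    (odd_orderOf_of_mem (core_odd _) ho) (hLH (core_le _ ho))
  have hTL : ∀ t ∈ T, t ∈ normalizer (L : Set G) := by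
    intro t ht
    obtain ⟨-, -, hswap⟩ := hsix _ (M.toPre.perm_sign ⟨t, hTN ht⟩) (hstab ⟨t, hTN ht⟩ (hTH ht))
    refine mem_normalizer_fintype fun x hx => ?_
    have h1 := conj_mem_cent (g := t) (SetLike.mem_coe.1 hx).1
    have h2 := conj_mem_cent (g := t) (SetLike.mem_coe.1 hx).2
    have f1 : t * M.f 1 * t⁻¹ = _ := M.f_conj ⟨t, hTN ht⟩ 1
    have f2 : t * M.f 2 * t⁻¹ = _ := M.f_conj ⟨t, hTN ht⟩ 2
    rw [f1] at h1
    rw [f2] at h2
    rcases hswap with ⟨e1, e2⟩ | ⟨e1, e2⟩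
    · rw [show M.toPre.perm ⟨t, hTN ht⟩ = M.perm ⟨t, hTN ht⟩ from rfl, e1] at h1
      rw [show M.toPre.perm ⟨t, hTN ht⟩ = M.perm ⟨t, hTN ht⟩ from rfl, e2] at h2
      exact mem_inf.2 ⟨h1, h2⟩
    · rw [show M.toPre.perm ⟨t, hTN ht⟩ = M.perm ⟨t, hTN ht⟩ from rfl, e1] at h1
      rw [show M.toPre.perm ⟨t, hTN ht⟩ = M.perm ⟨t, hTN ht⟩ from rfl, e2] at h2
      exact mem_inf.2 ⟨h2, h1⟩
  have hX : core K₀ ⊔ core L ≤ core H := by
    have hn : core L ≤ normalizer (core K₀ : Set G) := hLK.trans (le_normalizer_core K₀)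
    rw [sup_comm]
    refine le_core (sup_le ((core_le L).trans hLH) ((core_le K₀).trans hK₀H)) ?_
      (odd_sup hn (core_odd _) (core_odd _))
    intro h hh
    obtain ⟨k₀, hk₀, t, ht, rfl⟩ := hsplit h hh
    obtain ⟨s, hs, c, hcK, hcL, rfl⟩ := hK₀split k₀ hk₀
    have key : ∀ x : G, x ∈ normalizer (L : Set G) → x ∈ normalizer (core K₀ : Set G) →
        x ∈ normalizer ((core L ⊔ core K₀ : Subgroup G) : Set G) := by
      intro x hxL hxK
      refine mem_normalizer_fintype fun v hv => ?_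
      obtain ⟨a, ha, b, hb, rfl⟩ := (show v ∈ (core L : Set G) * (core K₀ : Set G) by
        rw [← coe_mul_of_left_le_normalizer_right _ _ hn]; exact hv)
      show x * (a * b) * x⁻¹ ∈ _
      rw [show x * (a * b) * x⁻¹ = (x * a * x⁻¹) * (x * b * x⁻¹) by group]
      exact mul_mem (mem_sup_left (le_normalizer_iff.1 (normalizer_le_normalizer_core L) x hxL a ha))
        (mem_sup_right (le_normalizer_iff.1 le_rfl x hxK b hb))
    refine mul_mem (mul_mem (Subgroup.le_normalizer (mem_sup_right hs))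
      (key c (Subgroup.le_normalizer hcL) (le_normalizer_core K₀ hcK)))
      (key t (hTL t ht) ((hK₀n.trans (normalizer_le_normalizer_core K₀)) (hTH ht)))
  intro h hh
  obtain ⟨k₀, hk₀, t, ht, rfl⟩ := hsplit h hh
  obtain ⟨s, hs, c, -, hcL, rfl⟩ := hK₀split k₀ hk₀
  obtain ⟨o, ho, n, hn, rfl⟩ := M.good_two hM c hcL
  exact ⟨s * o, mul_mem (hX (mem_sup_left hs)) (hX (mem_sup_right ho)), n * t,
    mul_mem hn (hTN ht), by group⟩

theorem good_all (hM : Classes M) (u : G) (hu : u ∈ A) (hu1 : u ≠ 1) :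
    Good A (centralizer ({u} : Set G)) := by
  obtain ⟨m, rfl⟩ := M.f_surj u hu
  rcases Masks.cover m with rfl | ⟨i, rfl⟩ | ⟨i, j, hij, rfl⟩
  · exact absurd M.f_zero hu1
  · exact M.good_pt hM i
  · have h : ∀ i j : Fin 5, i ≠ j → ∃ σ : Perm (Fin 5),
        Perm.sign σ = 1 ∧ Masks.act σ 3 = Masks.pt i ^^^ Masks.pt j := by decide +kernel
    obtain ⟨σ, hσ, he⟩ := h i j hij
    obtain ⟨n, hn⟩ := M.toPre.perm_lift hσ
    have h2 := M.good_of_conj (m := 3) n (M.good_pair hM)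
    rw [show M.perm n = σ from hn, he] at h2
    exact h2

end Model

end Cfsg.Agent.StronglyClosedFour
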