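import Cfsg.Agent.Lib.StronglyClosedFour.PointQuotient

/-!
# The centraliser of a natural vector
-/

set_option autoImplicit false
set_option linter.style.haveILetI false
set_option linter.unusedSectionVars false
set_option maxRecDepth 100000
set_option maxHeartbeats 1000000

namespace Cfsg.Agent.StronglyClosedFour

open Subgroup Equiv
open scoped Pointwise

universe u

variable {G : Type u} [Group G] [Finite G]

namespace Model

variable {A : Subgroup G} (M : Model A)
include M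

local notation "NA" => normalizer (A : Set G)
local notation "ON" => core (normalizer (A : Set G))

theorem exists_involution (hM : Classes M) {σ : Perm (Fin 5)} (hσ : Perm.sign σ = 1)
    (h2 : σ * σ = 1) (h1 : σ ≠ 1) : ∃ z : ↥NA, (z : G) * z = 1 ∧ M.perm z = σ := by
  obtain ⟨z, hz, hzA⟩ := hM.outer
  obtain ⟨τ, hτ, hc⟩ := Masks.involution_conj _ hσ h2 h1
  have hp2 : M.perm z * M.perm z = 1 := by
    show M.toPre.perm z * M.toPre.perm z = 1
    rw [← Pre.perm_mul, show z * z = 1 from Subtype.ext hz, Pre.perm_one]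
  obtain ⟨ρ, hρ, hc'⟩ := Masks.involution_conj _ (M.toPre.perm_sign z) hp2
    (fun h => hzA (M.involution_mem hz h))
  obtain ⟨n, hn⟩ := M.toPre.perm_lift (σ := τ⁻¹ * ρ) (by rw [map_mul, map_inv, hτ, hρ]; simp)
  refine ⟨n * z * n⁻¹, ?_, ?_⟩
  · push_cast
    rw [show (n : G) * z * (n : G)⁻¹ * ((n : G) * z * (n : G)⁻¹) =
      n * ((z : G) * z) * (n : G)⁻¹ by group, hz, mul_one, mul_inv_cancel]
  · show M.toPre.perm (n * z * n⁻¹) = σ
    rw [Pre.perm_mul, Pre.perm_mul, Pre.perm_inv, hn]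
    calc τ⁻¹ * ρ * M.toPre.perm z * (τ⁻¹ * ρ)⁻¹ = τ⁻¹ * (ρ * M.perm z) * ρ⁻¹ * τ := by
          show τ⁻¹ * ρ * M.perm z * (τ⁻¹ * ρ)⁻¹ = _
          group
      _ = τ⁻¹ * Masks.s₁ * τ := by rw [hc']; group
      _ = σ := by rw [mul_assoc, ← hc]; group

/-- Two involutions over the standard four-group whose product squares into `⟨f 15⟩`. -/
theorem exists_pair (hM : Classes M) : ∃ x y : ↥NA, (x : G) * x = 1 ∧ M.perm x = Masks.s₁ ∧
    (y : G) * y = 1 ∧ M.perm y = Masks.s₂ ∧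
    ∃ m, (m = 0 ∨ m = 15) ∧ (x : G) * y * ((x : G) * y) = M.f m := by
  obtain ⟨s11, s22, -, -, -, -, q1, q2, q3, p12, -, -, -, -, -⟩ := Masks.four_spec
  obtain ⟨g1, g2, -, -, -⟩ := Masks.signs
  obtain ⟨x, hx, hxs⟩ := M.exists_involution hM g1 q1 s11
  obtain ⟨y, hy, hys⟩ := M.exists_involution hM g2 q2 s22
  have hxi : (x : G)⁻¹ = x := inv_eq_of_mul_eq_one_right hx
  have hyi : (y : G)⁻¹ = y := inv_eq_of_mul_eq_one_right hy
  have hd : M.toPre.perm (x * y * (x * y)) = 1 := by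
    rw [Pre.perm_mul, Pre.perm_mul]
    show M.perm x * M.perm y * (M.perm x * M.perm y) = 1
    rw [hxs, hys, p12, q3]
  obtain ⟨a, ha, o, ho, hd'⟩ := M.toPre.perm_eq_one hd
  obtain ⟨m, rfl⟩ := M.f_surj a ha
  push_cast at hd'
  -- an element inverting `d` splits along `A × O(N)`
  have split : ∀ u : ↥NA, (u : G) * u = 1 →
      (u : G) * ((x : G) * y * ((x : G) * y)) * u = ((x : G) * y * ((x : G) * y))⁻¹ →
      Masks.act (M.perm u) m = m ∧ (u : G) * o * u = o⁻¹ := by
    intro u hu hinv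
    have hui : (u : G)⁻¹ = u := inv_eq_of_mul_eq_one_right hu
    have hA : (u : G) * M.f m * u ∈ A := by
      have := (mem_normalizer_iff.1 u.2 (M.f m)).1 (M.f_mem m)
      rwa [hui] at this
    have hO : (u : G) * o * u ∈ ON := by
      have := le_normalizer_iff.1 (le_normalizer_core (normalizer (A : Set G))) (u : G) u.2 o ho
      rwa [hui] at this
    rw [hd'] at hinv
    have h1 : (u : G) * M.f m * u * ((u : G) * o * u) = M.f m * o⁻¹ := by
      calc (u : G) * M.f m * u * ((u : G) * o * u) = (u : G) * M.f m * ((u : G) * u) * o * u := by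
            group
        _ = (u : G) * (M.f m * o) * u := by rw [hu, mul_one]; group
        _ = M.f m * o⁻¹ := by
          rw [hinv, mul_inv_rev, M.toPre.inv_eq (M.f_mem m),
            ← M.toPre.comm_core (M.f_mem m) (inv_mem ho)]
    have h2 : (M.f m)⁻¹ * ((u : G) * M.f m * u) = o⁻¹ * ((u : G) * o * u)⁻¹ := by
      calc (M.f m)⁻¹ * ((u : G) * M.f m * u)
          = (M.f m)⁻¹ * ((u : G) * M.f m * u * ((u : G) * o * u)) * ((u : G) * o * u)⁻¹ := by group
        _ = _ := by rw [h1]; group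
    have h3 := M.toPre.disjoint (mul_mem (inv_mem (M.f_mem m)) hA)
      (h2 ▸ mul_mem (inv_mem ho) (inv_mem hO))
    refine ⟨(M.commute_iff u m).1 ?_, ?_⟩
    · have h4 := inv_mul_eq_one.1 h3
      calc (u : G) * M.f m = (u : G) * M.f m * u * (u : G)⁻¹ := by group
        _ = M.f m * u := by rw [← h4, hui]
    · rw [h3] at h2
      exact (mul_eq_one_iff_eq_inv.1 (show ((u : G) * o * u) * o = 1 from inv_eq_one.1 (by
        rw [mul_inv_rev]; exact h2.symm)))
  obtain ⟨hm1, hox⟩ := split x hx (by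
    rw [show (x : G) * ((x : G) * y * ((x : G) * y)) * x = ((x : G) * x) * y * x * y * x by group,
      hx, one_mul, mul_inv_rev, mul_inv_rev, hxi, hyi]
    group)
  obtain ⟨hm2, hoy⟩ := split y hy (by
    rw [show (y : G) * ((x : G) * y * ((x : G) * y)) * y = (y : G) * x * y * x * ((y : G) * y) by
      group, hy, mul_one, mul_inv_rev, mul_inv_rev, hxi, hyi]
    group)
  rw [hxs] at hm1
  rw [hys] at hm2
  -- adjust the second involution
  obtain ⟨j, hj⟩ := odd_orderOf_of_mem (core_odd _) ho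
  set s := ((o⁻¹) ^ (j + 1)) ^ (j + 1) with hs
  have hsO : s ∈ ON := pow_mem (pow_mem (inv_mem ho) _) _
  set r := s * s with hr
  have hrr : r * r = o⁻¹ := by
    have h1 : (o⁻¹) ^ (2 * j + 1) = 1 := by rw [← hj, inv_pow, pow_orderOf_eq_one, inv_one]
    rw [hr, hs, ← pow_mul, ← pow_add, ← pow_add,
      show (j + 1) * (j + 1) + (j + 1) * (j + 1) + ((j + 1) * (j + 1) + (j + 1) * (j + 1)) =
        (2 * j + 1) * (2 * j + 3) + 1 by ring, pow_succ, pow_mul, h1, one_pow, one_mul]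
  have hpow : ∀ u : ↥NA, (u : G)⁻¹ = u → (u : G) * o * u = o⁻¹ → (u : G) * r * u = r⁻¹ := by
    intro u hui hinv
    have h1 : (u : G) * o⁻¹ * (u : G)⁻¹ = (o⁻¹)⁻¹ := by
      rw [inv_inv, hui]
      calc (u : G) * o⁻¹ * u = ((u : G)⁻¹ * o * (u : G)⁻¹)⁻¹ := by group
        _ = o := by rw [hui, hinv, inv_inv]
    have h2 : (u : G) * s * (u : G)⁻¹ = s⁻¹ := by
      rw [hs, ← conj_pow, ← conj_pow, h1, inv_pow, inv_pow]
    have h3 : (u : G) * r * (u : G)⁻¹ = r⁻¹ := by
      rw [hr, mul_inv_rev, ← h2]; group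
    rwa [hui] at h3
  have hyr := hpow y hyi hoy
  have hxr := hpow x hxi hox
  have hrO : r ∈ ON := mul_mem hsO hsO
  let y' : ↥NA := y * ⟨r, core_le _ hrO⟩
  refine ⟨x, y', hx, hxs, ?_, ?_, m, Masks.fixed_both m hm1 hm2, ?_⟩
  · show (y : G) * r * ((y : G) * r) = 1
    rw [← mul_assoc, hyr, inv_mul_cancel]
  · show M.toPre.perm y' = _
    rw [Pre.perm_mul, M.toPre.perm_of_mem (n := ⟨r, core_le _ hrO⟩) (Or.inr hrO), mul_one]
    exact hys
  · show (x : G) * ((y : G) * r) * ((x : G) * ((y : G) * r)) = M.f m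
    have hrxy : r * ((x : G) * y) = (x : G) * y * r := by
      calc r * ((x : G) * y) = (x : G) * ((x : G) * r * x) * y := by
            rw [show (x : G) * ((x : G) * r * x) * y = ((x : G) * x) * r * ((x : G) * y) by group,
              hx, one_mul]
        _ = (x : G) * r⁻¹ * y := by rw [hxr]
        _ = (x : G) * y * ((y : G) * r⁻¹ * y) := by
            rw [show (x : G) * y * ((y : G) * r⁻¹ * y) = (x : G) * ((y : G) * y) * r⁻¹ * y by group,
              hy, mul_one]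
        _ = (x : G) * y * r := by
            rw [show (y : G) * r⁻¹ * y = ((y : G)⁻¹ * r * (y : G)⁻¹)⁻¹ by group, hyi, hyr, inv_inv]
    calc (x : G) * ((y : G) * r) * ((x : G) * ((y : G) * r))
        = (x : G) * y * (r * ((x : G) * y)) * r := by group
      _ = (x : G) * y * ((x : G) * y) * (r * r) := by rw [hrxy]; group
      _ = M.f m := by rw [hd', hrr, mul_inv_cancel_right]

theorem good_point (hM : Classes M) : Good A (centralizer ({M.f 15} : Set G)) := by
  haveI : Fact (Nat.Prime 2) := ⟨Nat.prime_two⟩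
  set H := centralizer ({M.f 15} : Set G) with hH
  obtain ⟨x, y, hx, hxs, hy, hys, d, hd, hdd⟩ := M.exists_pair hM
  obtain ⟨f1, f2, f3, f4⟩ := Masks.fixes_four
  obtain ⟨s11, s22, s33, s12, s13, s23, q1, q2, q3, p12, p21, p13, p31, p23, p32⟩ :=
    Masks.four_spec
  -- elements of the normaliser fixing the last point lie in `H`
  have inH : ∀ n : ↥NA, M.perm n 4 = 4 → (n : G) ∈ H := fun n hn =>
    mem_centralizer_singleton_iff.2
      ((M.commute_iff n 15).2 ((Masks.fix_four _ (M.toPre.perm_sign n)).2 hn))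
  have hfour4 : ∀ σ ∈ Masks.four, σ 4 = 4 := by
    intro σ hσ
    rcases hσ with rfl | rfl | rfl | rfl <;> first | rfl | assumption
  set w : ↥NA := x * y with hw
  have hws : M.perm w = Masks.s₃ := by
    show M.toPre.perm (x * y) = _
    rw [Pre.perm_mul]
    show M.perm x * M.perm y = _
    rw [hxs, hys, p12]
  -- the subgroup generated by the two involutions and the even vectors
  have hnorm : ∀ n : ↥NA, M.perm n 4 = 4 → (n : G) ∈ normalizer (M.flatGroup : Set G) := by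
    intro n hn
    refine mem_normalizer_fintype fun p hp => ?_
    obtain ⟨k, hk, rfl⟩ := hp
    have hdec : ∀ σ : Perm (Fin 5), Perm.sign σ = 1 → σ 4 = 4 → ∀ k ∈ Masks.flat,
        Masks.act σ k ∈ Masks.flat := by decide +kernel
    rw [M.f_conj]
    exact M.f_mem_flat.2 (hdec _ (M.toPre.perm_sign n) hn k hk)
  set X := closure ({(x : G), (y : G)} : Set G) with hX
  have hxP := hnorm x (hxs ▸ f1)
  have hyP := hnorm y (hys ▸ f2)
  have hXP : X ≤ normalizer (M.flatGroup : Set G) := by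
    rw [hX, closure_le]
    rintro u (rfl | rfl)
    · exact hxP
    · exact hyP
  set M₀ := X ⊔ M.flatGroup with hM₀
  have hM₀N : M₀ ≤ NA := sup_le (by
    rw [hX, closure_le]; rintro u (rfl | rfl)
    · exact x.2
    · exact y.2) (M.flat_le.trans Subgroup.le_normalizer)
  -- normal form
  have hform : ∀ g ∈ M₀, ∃ c ∈ [(1 : ↥NA), x, y, w], ∃ k ∈ Masks.flat,
      g = (c : G) * M.f k := by
    intro g hg
    obtain ⟨c, hc, p, ⟨k, hk, rfl⟩, rfl⟩ := (show g ∈ (X : Set G) * (M.flatGroup : Set G) by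
      rw [← coe_mul_of_left_le_normalizer_right X M.flatGroup hXP]; exact hg)
    have hox : orderOf (x : G) = 2 := Involutions.Basic.orderOf_two_iff.2 ⟨hx, fun h =>
      s11 (hxs ▸ M.toPre.perm_of_mem (Or.inl (h ▸ one_mem A)))⟩
    have hoy : orderOf (y : G) = 2 := Involutions.Basic.orderOf_two_iff.2 ⟨hy, fun h =>
      s22 (hys ▸ M.toPre.perm_of_mem (Or.inl (h ▸ one_mem A)))⟩
    obtain ⟨i, hi⟩ := (Involutions.Basic.mem_closure_pair hox hoy).1 hc
    have hdflat : d ∈ Masks.flat := by rcases hd with rfl | rfl <;> decide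
    have heven : ∀ l : ℤ, ∃ k' ∈ Masks.flat, ((x : G) * y) ^ (2 * l) = M.f k' := fun l => by
      have : ((x : G) * y) ^ (2 * l) ∈ M.flatGroup := by
        rw [zpow_mul, zpow_ofNat, pow_two, hdd]
        exact zpow_mem (M.f_mem_flat.2 hdflat) l
      obtain ⟨k', hk', he⟩ := this
      exact ⟨k', hk', he.symm⟩
    rcases Int.even_or_odd' i with ⟨l, rfl | rfl⟩
    · obtain ⟨k', hk', he⟩ := heven l
      rcases hi with hi | hi
      · refine ⟨1, by simp, k' ^^^ k, Masks.flat_xor _ hk' _ hk, ?_⟩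
        show c * M.f k = _
        rw [hi, he, M.f_mul]; simp
      · refine ⟨x, by simp, k' ^^^ k, Masks.flat_xor _ hk' _ hk, ?_⟩
        show c * M.f k = _
        rw [hi, he, M.f_mul, mul_assoc]
    · obtain ⟨k', hk', he⟩ := heven l
      rcases hi with hi | hi
      · refine ⟨w, by simp, k' ^^^ k, Masks.flat_xor _ hk' _ hk, ?_⟩
        show c * M.f k = _
        rw [hi, add_comm, zpow_add, zpow_one, he, M.f_mul, hw]; push_cast; group
      · refine ⟨y, by simp, k' ^^^ k, Masks.flat_xor _ hk' _ hk, ?_⟩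
        show c * M.f k = _
        rw [hi, add_comm, zpow_add, zpow_one, he, M.f_mul, ← mul_assoc (x : G), ← mul_assoc (x : G),
          hx, one_mul]
        group
  have hcperm : ∀ c ∈ [(1 : ↥NA), x, y, w], M.perm c ∈ Masks.four ∧ (M.perm c = 1 → c = 1) := by
    intro c hc
    simp only [List.mem_cons, List.not_mem_nil, or_false] at hc
    rcases hc with rfl | rfl | rfl | rfl
    · exact ⟨by rw [show M.perm 1 = 1 from M.toPre.perm_one]; exact one_mem _, fun _ => rfl⟩
    · exact ⟨by rw [hxs]; exact Or.inr (Or.inl rfl), fun h => absurd (hxs ▸ h) s11⟩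
    · exact ⟨by rw [hys]; exact Or.inr (Or.inr (Or.inl rfl)), fun h => absurd (hys ▸ h) s22⟩
    · exact ⟨by rw [hws]; exact Or.inr (Or.inr (Or.inr rfl)), fun h => absurd (hws ▸ h) s33⟩
  have hpermM : ∀ g : ↥NA, (g : G) ∈ M₀ → ∃ c ∈ [(1 : ↥NA), x, y, w], ∃ k ∈ Masks.flat,
      (g : G) = (c : G) * M.f k ∧ M.perm g = M.perm c := by
    intro g hg
    obtain ⟨c, hc, k, hk, he⟩ := hform _ hg
    refine ⟨c, hc, k, hk, he, ?_⟩
    have : g = c * ⟨M.f k, Subgroup.le_normalizer (M.f_mem k)⟩ := Subtype.ext he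
    show M.toPre.perm g = _
    rw [this, Pre.perm_mul,
      M.toPre.perm_of_mem (n := ⟨M.f k, Subgroup.le_normalizer (M.f_mem k)⟩) (Or.inl (M.f_mem k)),
      mul_one]
  have hker : ∀ g : ↥NA, (g : G) ∈ M₀ → M.perm g = 1 → (g : G) ∈ M.flatGroup := by
    intro g hg h1
    obtain ⟨c, hc, k, hk, he, hp⟩ := hpermM g hg
    rw [(hcperm c hc).2 (hp ▸ h1), OneMemClass.coe_one, one_mul] at he
    rw [he]
    exact M.f_mem_flat.2 hk
  have hperm4 : ∀ g : ↥NA, (g : G) ∈ M₀ → M.perm g ∈ Masks.four := by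
    intro g hg
    obtain ⟨c, hc, k, -, -, hp⟩ := hpermM g hg
    rw [hp]; exact (hcperm c hc).1
  have hcsq : ∀ c ∈ [(1 : ↥NA), x, y, w], (c : G) * c ∈ zpowers (M.f 15) := by
    intro c hc
    simp only [List.mem_cons, List.not_mem_nil, or_false] at hc
    rcases hc with rfl | rfl | rfl | rfl
    · simp
    · rw [hx]; exact one_mem _
    · rw [hy]; exact one_mem _
    · rw [hw]; push_cast; rw [hdd]
      rcases hd with rfl | rfl
      · rw [M.f_zero]; exact one_mem _
      · exact mem_zpowers _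
  have hsqM : ∀ g ∈ M₀, g * g ∈ zpowers (M.f 15) := by
    intro g hg
    obtain ⟨c, hc, k, hk, rfl⟩ := hform g hg
    have hci : M.toPre.perm c⁻¹ = M.perm c := by
      rw [Pre.perm_inv]
      show (M.perm c)⁻¹ = M.perm c
      rcases (hcperm c hc).1 with h | h | h | h <;> rw [h]
      · exact inv_one
      · exact inv_eq_of_mul_eq_one_right q1
      · exact inv_eq_of_mul_eq_one_right q2
      · exact inv_eq_of_mul_eq_one_right q3
    have h1 := M.f_conj c⁻¹ k
    rw [hci] at h1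
    push_cast at h1
    rw [show (c : G) * M.f k * ((c : G) * M.f k) =
      (c : G) * c * (((c : G))⁻¹ * M.f k * ((c : G))⁻¹⁻¹ * M.f k) by group, h1, ← M.f_mul]
    refine mul_mem (hcsq c hc) ?_
    rcases Masks.four_flat _ (Masks.mem_four.1 (hcperm c hc).1) k hk with h | h <;> rw [h]
    · rw [M.f_zero]; exact one_mem _
    · exact mem_zpowers _
  -- the larger group
  set T₀ := M₀ ⊔ A with hT₀
  have hT₀N : T₀ ≤ NA := sup_le hM₀N Subgroup.le_normalizer
  have hTform : ∀ g ∈ T₀, ∃ p ∈ M₀, ∃ a ∈ A, g = p * a := by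
    intro g hg
    obtain ⟨p, hp, a, ha, rfl⟩ := (show g ∈ (M₀ : Set G) * (A : Set G) by
      rw [← coe_mul_of_left_le_normalizer_right M₀ A hM₀N]; exact hg)
    exact ⟨p, hp, a, ha, rfl⟩
  have hTperm : ∀ g : ↥NA, (g : G) ∈ T₀ → ∃ p : ↥NA, (p : G) ∈ M₀ ∧
      M.perm g = M.perm p ∧ ((p : G))⁻¹ * g ∈ A := by
    intro g hg
    obtain ⟨p, hp, a, ha, he⟩ := hTform _ hg
    refine ⟨⟨p, hM₀N hp⟩, hp, ?_, by rw [he, inv_mul_cancel_left]; exact ha⟩
    have : g = ⟨p, hM₀N hp⟩ * ⟨a, Subgroup.le_normalizer ha⟩ := Subtype.ext he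
    show M.toPre.perm g = _
    rw [this, Pre.perm_mul,
      M.toPre.perm_of_mem (n := ⟨a, Subgroup.le_normalizer ha⟩) (Or.inl ha), mul_one]
  have hAT : A ≤ T₀ := le_sup_right
  have hTker : ∀ g : ↥NA, (g : G) ∈ T₀ → M.perm g = 1 → (g : G) ∈ A := by
    intro g hg h1
    obtain ⟨p, hp, he, ha⟩ := hTperm g hg
    have := mul_mem (M.flat_le (hker p hp (he ▸ h1))) ha
    rwa [mul_inv_cancel_left] at this
  have hT4 : IsPGroup 2 T₀ := by
    intro g
    refine ⟨2, Subtype.ext ?_⟩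
    have hgg : (g : G) * g ∈ A := hTker (⟨g, hT₀N g.2⟩ * ⟨g, hT₀N g.2⟩) (mul_mem g.2 g.2) (by
      obtain ⟨p, hp, he, -⟩ := hTperm ⟨g, hT₀N g.2⟩ g.2
      show M.toPre.perm _ = 1
      rw [Pre.perm_mul]
      show M.perm ⟨g, hT₀N g.2⟩ * M.perm ⟨g, hT₀N g.2⟩ = 1
      rw [he]
      rcases hperm4 p hp with h | h | h | h <;> rw [h]
      · exact one_mul 1
      · exact q1
      · exact q2
      · exact q3)
    show (g : G) ^ 2 ^ 2 = 1
    rw [show (2 : ℕ) ^ 2 = 2 * 2 from rfl, pow_mul, pow_two, pow_two, M.sq _ hgg]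
  have hT64 : Nat.card T₀ = 64 := by
    refine le_antisymm (Nat.le_of_dvd (by norm_num) (M.toPre.card_two_dvd hT4)) ?_
    let φ : ↥T₀ →* Perm (Fin 5) :=
      (alternatingGroup (Fin 5)).subtype.comp (M.toPre.π.comp (inclusion hT₀N))
    have h1 : Nat.card ↥φ.ker * φ.ker.index = Nat.card ↥T₀ := φ.ker.card_mul_index
    rw [index_ker] at h1
    have h4 : 4 ≤ Nat.card ↥φ.range := by
      rw [← Masks.card_four]
      refine Nat.le_of_dvd Nat.card_pos (card_dvd_of_le ?_)
      have hxT : (x : G) ∈ T₀ := mem_sup_left (mem_sup_left (subset_closure (Set.mem_insert _ _)))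
      have hyT : (y : G) ∈ T₀ :=
        mem_sup_left (mem_sup_left (subset_closure (Set.mem_insert_of_mem _ rfl)))
      have hx' : Masks.s₁ ∈ φ.range := ⟨⟨x, hxT⟩, hxs⟩
      have hy' : Masks.s₂ ∈ φ.range := ⟨⟨y, hyT⟩, hys⟩
      rintro σ (rfl | rfl | rfl | rfl)
      · exact one_mem _
      · exact hx'
      · exact hy'
      · rw [← p12]; exact mul_mem hx' hy'
    have h16 : 16 ≤ Nat.card ↥φ.ker := by
      rw [← M.toPre.card, ← Nat.card_congr (subgroupOfEquivOfLe hAT).toEquiv]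
      refine Nat.le_of_dvd Nat.card_pos (card_dvd_of_le fun a ha => ?_)
      rw [MonoidHom.mem_ker]
      show M.perm ⟨a, hT₀N a.2⟩ = 1
      exact M.toPre.perm_of_mem (Or.inl ha)
    calc 64 = 16 * 4 := rfl
      _ ≤ _ := Nat.mul_le_mul h16 h4
      _ = _ := h1
  have hMT : M₀ ≤ T₀ := le_sup_left
  have hf1 : M.f 1 ∉ M₀ := fun h => by
    have := hker ⟨M.f 1, Subgroup.le_normalizer (M.f_mem 1)⟩ h
      (M.toPre.perm_of_mem (Or.inl (M.f_mem 1)))
    exact absurd (M.f_mem_flat.1 this) (by decide)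
  have hcos : ∀ g ∈ T₀, g ∈ M₀ ∨ g * M.f 1 ∈ M₀ := by
    intro g hg
    obtain ⟨p, hp, a, ha, rfl⟩ := hTform g hg
    obtain ⟨k, rfl⟩ := M.f_surj a ha
    rcases Masks.flat_cover k with hk | hk
    · exact Or.inl (mul_mem hp (mem_sup_right (M.f_mem_flat.2 hk)))
    · refine Or.inr ?_
      rw [mul_assoc, ← M.f_mul]
      exact mul_mem hp (mem_sup_right (M.f_mem_flat.2 hk))
  have hrel : M₀.relIndex T₀ = 2 := by
    refine index_eq_two_iff.2 ⟨⟨M.f 1, hAT (M.f_mem 1)⟩, fun g => ?_⟩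
    rcases hcos g g.2 with h | h
    · refine Or.inr ⟨h, fun h' => hf1 ?_⟩
      have h2 := mul_mem (inv_mem h) (mem_subgroupOf.1 h')
      push_cast at h2
      rwa [inv_mul_cancel_left] at h2
    · refine Or.inl ⟨by rw [mem_subgroupOf]; push_cast; exact h, fun h' => hf1 ?_⟩
      have h2 := mul_mem (inv_mem (show (g : G) ∈ M₀ from h')) h
      rwa [inv_mul_cancel_left] at h2
  have hT₀H : T₀ ≤ H := by
    intro g hg
    obtain ⟨p, hp, he, -⟩ := hTperm ⟨g, hT₀N hg⟩ hg
    exact inH ⟨g, hT₀N hg⟩ (he ▸ hfour4 _ (hperm4 p hp))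
  have hTodd : Odd (T₀.relIndex H) := by
    obtain ⟨r, hr, hG⟩ := M.toPre.order
    have h1 := T₀.card_mul_index
    rw [hT64, hG] at h1
    exact (mul_left_cancel₀ (by norm_num : (64 : ℕ) ≠ 0) h1 ▸ hr).of_dvd_nat
      (relIndex_dvd_index_of_le hT₀H)
  have hf15_ne : ¬ IsConj (M.f 15) (M.f 3) := fun h =>
    hM.not_conj ((M.pt_conj 0 4).trans h)
  obtain ⟨K₁, hK₁H, hK₁n, hK₁rel, hf1K, hmul⟩ := thompson hT₀H hTodd hMT hrel
    (M.orderOf_f (show (1 : Fin 16) ≠ 0 by decide)) (hT₀H (hAT (M.f_mem 1))) (by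
      intro g hg hgM
      have hgA := hM.closed g _ (M.f_mem 1) (hM₀N hgM)
      have hP := hker ⟨_, hM₀N hgM⟩ hgM (M.toPre.perm_of_mem (Or.inl hgA))
      obtain ⟨k, hk, he⟩ := hP
      have hkc : IsConj (M.f 1) (M.f k) := isConj_iff.2 ⟨g, he.symm⟩
      rcases Masks.flat_kinds k hk with rfl | rfl | ⟨i, j, hij, rfl⟩
      · have : g * M.f 1 * g⁻¹ = 1 := he.symm.trans M.f_zero
        exact absurd (M.f_eq_one 1 (conj_eq_one_iff.1 this)) (by decide)
      · have hgc := mem_centralizer_singleton_iff.1 hg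
        have : M.f 1 = M.f 15 := by
          calc M.f 1 = g⁻¹ * (g * M.f 1 * g⁻¹) * g := by group
            _ = g⁻¹ * (M.f 15 * g) := by rw [show g * M.f 1 * g⁻¹ = M.f 15 from he.symm]; group
            _ = M.f 15 := by rw [← hgc, inv_mul_cancel_left]
        exact absurd (M.f_inj this) (by decide)
      · exact hM.not_conj (hkc.trans (M.pair_conj i j hij)))
  have h1K : (1 : G) ∈ K₁ := one_mem _
  have hAH : A ≤ H := M.le_cent 15
  -- membership of the vectors
  have hxor : ∀ a b : Fin 16, (M.f (a ^^^ b) ∈ K₁ ↔ (M.f a ∈ K₁ ↔ M.f b ∈ K₁)) := fun a b => by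
    rw [M.f_mul]; exact hmul _ (hAH (M.f_mem a)) _ (hAH (M.f_mem b))
  have hpt : ∀ i : Fin 5, i ≠ 4 → M.f (Masks.pt i) ∉ K₁ := by
    intro i hi h
    obtain ⟨v, hv, hv0⟩ := Masks.reach i 0 hi (by decide)
    have hv4 := hfour4 v (Masks.mem_four.2 hv)
    have hsign : Perm.sign v = 1 := by
      obtain ⟨g1, g2, g3, -, -⟩ := Masks.signs
      rcases Masks.mem_four.2 hv with rfl | rfl | rfl | rfl
      · exact map_one _
      · exact g1
      · exact g2
      · exact g3
    obtain ⟨n, hn⟩ := M.toPre.perm_lift hsign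
    have h' := le_normalizer_iff.1 hK₁n n (inH n (by rw [show M.perm n = v from hn]; exact hv4)) _ h
    rw [M.f_conj, hn, Masks.act_pt v hsign, hv0] at h'
    exact hf1K h'
  have hflat : ∀ k, M.f k ∈ K₁ ↔ k ∈ Masks.flat := by
    have n1 := hpt 0 (by decide)
    have n2 := hpt 1 (by decide)
    have n4 := hpt 2 (by decide)
    have n8 := hpt 3 (by decide)
    change M.f 1 ∉ K₁ at n1
    change M.f 2 ∉ K₁ at n2
    change M.f 4 ∉ K₁ at n4
    change M.f 8 ∉ K₁ at n8
    have e0 : M.f 0 ∈ K₁ := by rw [M.f_zero]; exact h1K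
    have y3 : M.f 3 ∈ K₁ := (hxor 1 2).2 (iff_of_false n1 n2)
    have y5 : M.f 5 ∈ K₁ := (hxor 1 4).2 (iff_of_false n1 n4)
    have y9 : M.f 9 ∈ K₁ := (hxor 1 8).2 (iff_of_false n1 n8)
    have y6 : M.f 6 ∈ K₁ := (hxor 2 4).2 (iff_of_false n2 n4)
    have y10 : M.f 10 ∈ K₁ := (hxor 2 8).2 (iff_of_false n2 n8)
    have y12 : M.f 12 ∈ K₁ := (hxor 4 8).2 (iff_of_false n4 n8)
    have y15 : M.f 15 ∈ K₁ := (hxor 3 12).2 (iff_of_true y3 y12)
    have n7 : M.f 7 ∉ K₁ := fun h => n4 (((hxor 3 4).1 h).1 y3)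
    have n11 : M.f 11 ∉ K₁ := fun h => n8 (((hxor 3 8).1 h).1 y3)
    have n13 : M.f 13 ∉ K₁ := fun h => n8 (((hxor 5 8).1 h).1 y5)
    have n14 : M.f 14 ∉ K₁ := fun h => n8 (((hxor 6 8).1 h).1 y6)
    intro k
    fin_cases k
    · exact iff_of_true e0 (by decide)
    · exact iff_of_false n1 (by decide)
    · exact iff_of_false n2 (by decide)
    · exact iff_of_true y3 (by decide)
    · exact iff_of_false n4 (by decide)
    · exact iff_of_true y5 (by decide)
    · exact iff_of_true y6 (by decide)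
    · exact iff_of_false n7 (by decide)
    · exact iff_of_false n8 (by decide)
    · exact iff_of_true y9 (by decide)
    · exact iff_of_true y10 (by decide)
    · exact iff_of_false n11 (by decide)
    · exact iff_of_true y12 (by decide)
    · exact iff_of_false n13 (by decide)
    · exact iff_of_false n14 (by decide)
    · exact iff_of_true y15 (by decide)
  have hON : ∀ o ∈ ON, o ∈ K₁ := fun o ho =>
    odd_mem_of_index_two hK₁n (j := 1) (by rw [hK₁rel]; rfl)
      (odd_orderOf_of_mem (core_odd _) ho)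
      (inH ⟨o, core_le _ ho⟩ (by
        rw [show M.perm ⟨o, core_le _ ho⟩ = 1 from M.toPre.perm_of_mem (Or.inr ho)]; rfl))
  -- involutions over the same permutation
  have hsame : ∀ u u' : ↥NA, (u : G) * u = 1 → (u' : G) * u' = 1 →
      M.perm u ∈ [Masks.s₁, Masks.s₂, Masks.s₃] → M.perm u' = M.perm u →
      ((u' : G) ∈ K₁ ↔ (u : G) ∈ K₁) := by
    intro u u' hu hu' hs hp
    obtain ⟨m, hm, o, ho, he, -⟩ := M.diff hu hu' hp
    have hmK : M.f m ∈ K₁ := (hflat m).2 (Masks.four_fixed _ hs m hm)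
    rw [he, mul_assoc, mul_mem_cancel_right (mul_mem hmK (hON o ho))]
  obtain ⟨g1, g2, g3, g4, -⟩ := Masks.signs
  obtain ⟨n, hn⟩ := M.toPre.perm_lift g4
  have hnH : (n : G) ∈ H := inH n (by rw [show M.perm n = Masks.c₃ from hn]; exact f4)
  obtain ⟨c1, c2⟩ := Masks.conj_table
  obtain ⟨z, hz, hzs⟩ := M.exists_involution hM g3 q3 s33
  have hconj : ∀ u : ↥NA, (u : G) * u = 1 →
      ((n * u * n⁻¹ : ↥NA) : G) * (n * u * n⁻¹ : ↥NA) = 1 ∧
        (((n * u * n⁻¹ : ↥NA) : G) ∈ K₁ ↔ (u : G) ∈ K₁) := by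
    intro u hu
    push_cast
    refine ⟨by rw [show (n : G) * u * (n : G)⁻¹ * ((n : G) * u * (n : G)⁻¹) =
      n * ((u : G) * u) * (n : G)⁻¹ by group, hu, mul_one, mul_inv_cancel], ?_⟩
    exact ⟨fun h => (mem_normalizer_iff.1 (hK₁n hnH) u).2 h,
      fun h => (mem_normalizer_iff.1 (hK₁n hnH) u).1 h⟩
  have hxz : (x : G) ∈ K₁ ↔ (z : G) ∈ K₁ := by
    obtain ⟨h1, h2⟩ := hconj x hx
    rw [← h2]
    refine hsame z _ hz h1 (by rw [hzs]; simp) ?_
    show M.toPre.perm _ = _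
    rw [Pre.perm_mul, Pre.perm_mul, Pre.perm_inv, hn]
    show Masks.c₃ * M.perm x * Masks.c₃⁻¹ = M.perm z
    rw [hxs, hzs, c1, mul_inv_cancel_right]
  have hzy : (z : G) ∈ K₁ ↔ (y : G) ∈ K₁ := by
    obtain ⟨h1, h2⟩ := hconj z hz
    rw [← h2]
    refine hsame y _ hy h1 (by rw [hys]; simp) ?_
    show M.toPre.perm _ = _
    rw [Pre.perm_mul, Pre.perm_mul, Pre.perm_inv, hn]
    show Masks.c₃ * M.perm z * Masks.c₃⁻¹ = M.perm y
    rw [hys, hzs, c2, mul_inv_cancel_right]
  have hwz : (w : G) ∈ K₁ ↔ (z : G) ∈ K₁ := by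
    have hk : M.toPre.perm (z⁻¹ * w) = 1 := by
      rw [Pre.perm_mul, Pre.perm_inv]
      exact inv_mul_eq_one.2 (hzs.trans hws.symm)
    obtain ⟨a, ha, o, ho, he⟩ := M.toPre.perm_eq_one hk
    obtain ⟨m, rfl⟩ := M.f_surj a ha
    have hzi : (z : G)⁻¹ = z := inv_eq_of_mul_eq_one_right hz
    push_cast at he
    have he' : (w : G) = z * M.f m * o := by
      rw [mul_assoc, ← he, mul_inv_cancel_left]
    have hcz := M.f_conj z m
    rw [hzi, show M.toPre.perm z = Masks.s₃ from hzs] at hcz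
    have hO : (z : G) * o * z ∈ ON := by
      have := le_normalizer_iff.1 (le_normalizer_core (normalizer (A : Set G))) (z : G) z.2 o ho
      rwa [hzi] at this
    have h1 : M.f (Masks.act Masks.s₃ m ^^^ m) * ((z : G) * o * z * o) = M.f d := by
      rw [M.f_mul, ← hcz, ← hdd, ← show (w : G) = (x : G) * y from rfl, he']
      have hc2 := M.toPre.comm_core (M.f_mem m) hO
      have hc1 := M.toPre.comm_core (M.f_mem m) ho
      calc (z : G) * M.f m * z * M.f m * ((z : G) * o * z * o)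
          = (z : G) * M.f m * z * (M.f m * ((z : G) * o * z)) * o := by group
        _ = (z : G) * M.f m * ((z : G) * z) * o * z * M.f m * o := by rw [hc2]; group
        _ = _ := by rw [hz, mul_one]; group
    have h2 : (M.f (Masks.act Masks.s₃ m ^^^ m))⁻¹ * M.f d = 1 :=
      M.toPre.disjoint (mul_mem (inv_mem (M.f_mem _)) (M.f_mem d)) (by
        rw [← h1, inv_mul_cancel_left]; exact mul_mem hO ho)
    have hm : m ∈ Masks.flat := Masks.s₃_fixed m (by
      rw [M.f_inj (inv_mul_eq_one.1 h2)]; exact hd)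
    rw [he', mul_assoc, mul_mem_cancel_right (mul_mem ((hflat m).2 hm) (hON o ho))]
  have hwxy : (w : G) ∈ K₁ ↔ ((x : G) ∈ K₁ ↔ (y : G) ∈ K₁) :=
    hmul _ (inH x (hxs ▸ f1)) _ (inH y (hys ▸ f2))
  have hzK : (z : G) ∈ K₁ := hwz.1 (hwxy.2 (hxz.trans hzy))
  have hxK : (x : G) ∈ K₁ := hxz.2 hzK
  have hyK : (y : G) ∈ K₁ := hzy.1 hzK
  have hMK : M₀ ≤ K₁ := sup_le (by
    rw [hX, closure_le]; rintro u (rfl | rfl)
    · exact hxK
    · exact hyK) (fun p ⟨k, hk, he⟩ => he ▸ (hflat k).2 hk)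
  have hModd : Odd (M₀.relIndex K₁) := by
    have h1 := relIndex_mul_relIndex M₀ K₁ H hMK hK₁H
    rw [hK₁rel, ← relIndex_mul_relIndex M₀ T₀ H hMT hT₀H, hrel] at h1
    obtain ⟨r, hr⟩ := hTodd
    exact ⟨r, by omega⟩
  have hM32 : Nat.card ↥M₀ = 32 := by
    have h1 : Nat.card ↥M₀ * M₀.relIndex T₀ = Nat.card ↥T₀ := by
      rw [← relIndex_bot_left, ← relIndex_bot_left]
      exact relIndex_mul_relIndex _ _ _ bot_le hMT
    rw [hrel, hT64] at h1
    omega
  have hsplit := M.point_quotient hM (M₀ := M₀) (K₁ := K₁)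
    { le_cent := hK₁H, le_K := hMK, le_N := hM₀N, flat_le := le_sup_right, ker := hker,
      perm_mem := hperm4, sq_mem := hsqM, card := hM32, odd := hModd,
      outer := ⟨x, mem_sup_left (subset_closure (Set.mem_insert _ _)), by rw [hxs]; exact s11⟩ }
  -- assemble
  have hcoreK : core K₁ ≤ core H :=
    core_le_core hK₁H (hK₁n.trans (normalizer_le_normalizer_core K₁))
  have hdec : ∀ h ∈ H, ∃ o ∈ core H, ∃ g ∈ normalizer (M.flatGroup : Set G),
      h = o * g := by
    intro h hh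
    by_cases hK : h ∈ K₁
    · obtain ⟨o, ho, g, hg, rfl⟩ := hsplit h hK
      exact ⟨o, hcoreK ho, g, hg, rfl⟩
    · have hK' : h * M.f 1 ∈ K₁ := (hmul h hh _ (hAH (M.f_mem 1))).2 (iff_of_false hK hf1K)
      obtain ⟨o, ho, g, hg, he⟩ := hsplit _ hK'
      refine ⟨o, hcoreK ho, g * M.f 1, mul_mem hg (mem_normalizer_fintype fun p hp => ?_), ?_⟩
      · show M.f 1 * p * (M.f 1)⁻¹ ∈ M.flatGroup
        rw [M.toPre.comm (M.f_mem 1) (M.flat_le hp), mul_inv_cancel_right]
        exact hp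
      · rw [← mul_assoc, ← he, mul_assoc, M.sq _ (M.f_mem 1), mul_one]
  have hCP : M.flatCent ≤ H := fun c hc => mem_centralizer_singleton_iff.2
    (mem_centralizer_iff.1 hc _ (M.f_mem_flat.2 (show (15 : Fin 16) ∈ Masks.flat by decide))).symm
  have hcoreCP : core M.flatCent ≤ core H := by
    have hXn : core M.flatCent ≤ normalizer (core H : Set G) :=
      ((core_le _).trans hCP).trans (le_normalizer_core H)
    refine le_sup_left.trans (le_core (X := core M.flatCent ⊔ core H)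
      (sup_le ((core_le _).trans hCP) (core_le H)) ?_ (odd_sup hXn (core_odd _) (core_odd _)))
    intro h hh
    obtain ⟨o, ho, g, hg, rfl⟩ := hdec h hh
    refine mul_mem (Subgroup.le_normalizer (mem_sup_right ho)) ?_
    have hgH : g ∈ H := by
      have := mul_mem (inv_mem (core_le H ho)) hh
      rwa [inv_mul_cancel_left] at this
    refine mem_normalizer_fintype fun v hv => ?_
    obtain ⟨a, ha, b, hb, rfl⟩ := (show v ∈ (core M.flatCent : Set G) * (core H : Set G) by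
      rw [← coe_mul_of_left_le_normalizer_right _ _ hXn]; exact hv)
    show g * (a * b) * g⁻¹ ∈ _
    rw [show g * (a * b) * g⁻¹ = (g * a * g⁻¹) * (g * b * g⁻¹) by group]
    exact mul_mem (mem_sup_left (le_normalizer_iff.1
      ((M.normalizer_flat_le).trans (normalizer_le_normalizer_core _)) g hg a ha))
      (mem_sup_right (le_normalizer_iff.1 (le_normalizer_core H) g hgH b hb))
  intro h hh
  obtain ⟨o, ho, g, hg, rfl⟩ := hdec h hh
  obtain ⟨o', ho', m, hm, rfl⟩ := M.frattini hM hg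
  exact ⟨o * o', mul_mem ho (hcoreCP ho'), m, hm, by group⟩

end Model

end Cfsg.Agent.StronglyClosedFour
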