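import Cfsg.Agent.Lib.StronglyClosedFour.Flat
import Cfsg.Agent.Lib.StronglyClosedFour.General

/-!
# The quotient of the index-two subgroup of the centraliser of a natural vector
-/

set_option autoImplicit false
set_option linter.style.haveILetI false
set_option linter.unusedSectionVars false
set_option maxRecDepth 100000
set_option maxHeartbeats 1000000

namespace Cfsg.Agent.StronglyClosedFour

open Subgroup Equiv

universe u

variable {G : Type u} [Group G] [Finite G]

theorem mem_zpowers_involution {e x : G} (he : e * e = 1) (hx : x ∈ zpowers e) :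
    x = 1 ∨ x = e := by
  obtain ⟨n, rfl⟩ := hx
  rcases Int.even_or_odd' n with ⟨k, rfl | rfl⟩
  · left
    simp only
    rw [zpow_mul, zpow_ofNat, pow_two, he, one_zpow]
  · right
    simp only
    rw [zpow_add, zpow_mul, zpow_ofNat, pow_two, he, one_zpow, one_mul, zpow_one]

namespace Model

variable {A : Subgroup G} (M : Model A)
include M

local notation "NA" => normalizer (A : Set G)

theorem f15_sq : M.f 15 * M.f 15 = 1 := M.sq _ (M.f_mem 15)

/-- The structural data of a Sylow 2-subgroup of a normal subgroup of index two of the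
centraliser of a natural vector. -/
structure PointData (M₀ K₁ : Subgroup G) : Prop where
  le_cent : K₁ ≤ centralizer ({M.f 15} : Set G)
  le_K : M₀ ≤ K₁
  le_N : M₀ ≤ NA
  flat_le : M.flatGroup ≤ M₀
  ker : ∀ n : ↥NA, (n : G) ∈ M₀ → M.perm n = 1 → (n : G) ∈ M.flatGroup
  perm_mem : ∀ n : ↥NA, (n : G) ∈ M₀ → M.perm n ∈ Masks.four
  sq_mem : ∀ g ∈ M₀, g * g ∈ zpowers (M.f 15)
  card : Nat.card ↥M₀ = 32
  odd : Odd (M₀.relIndex K₁)
  outer : ∃ x : ↥NA, (x : G) ∈ M₀ ∧ M.perm x ≠ 1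

theorem point_quotient (hM : Classes M) {M₀ K₁ : Subgroup G} (D : M.PointData M₀ K₁) :
    ∀ k ∈ K₁, ∃ o ∈ core K₁, ∃ g ∈ normalizer (M.flatGroup : Set G), k = o * g := by
  haveI : Fact (Nat.Prime 2) := ⟨Nat.prime_two⟩
  set e := M.f 15 with he
  set E := zpowers e with hE
  have he2 : e * e = 1 := M.f15_sq
  have heA : e ∈ A := M.f_mem 15
  have heP : e ∈ M.flatGroup := M.f_mem_flat.2 (by decide)
  have hEM : E ≤ M₀ := zpowers_le.2 (D.flat_le heP)
  have hEcent : ∀ k ∈ K₁, ∀ y ∈ E, k * y = y * k := by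
    intro k hk y hy
    rcases mem_zpowers_involution he2 hy with rfl | rfl
    · simp
    · exact mem_centralizer_singleton_iff.1 (D.le_cent hk)
  -- membership in `E`
  have hmask : ∀ m, M.f m ∈ E → m = 0 ∨ m = 15 := by
    intro m hm
    rcases mem_zpowers_involution he2 hm with h | h
    · exact Or.inl (M.f_eq_one m h)
    · exact Or.inr (M.f_inj h)
  -- conjugates of vectors landing in `M₀`
  have hclosedP : ∀ g : G, ∀ p ∈ M.flatGroup, g * p * g⁻¹ ∈ M₀ → g * p * g⁻¹ ∈ M.flatGroup := by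
    intro g p hp hgp
    have hA := hM.closed g p (M.flat_le hp) (D.le_N hgp)
    exact D.ker ⟨_, D.le_N hgp⟩ hgp (M.toPre.perm_of_mem (Or.inl hA))
  have hnormP : ∀ g : G, g ∈ normalizer (M₀ : Set G) →
      g ∈ normalizer (M.flatGroup : Set G) := fun g hg => mem_normalizer_fintype fun p hp =>
    hclosedP g p hp ((mem_normalizer_iff.1 hg p).1 (D.flat_le hp))
  -- the quotient
  let E' : Subgroup ↥K₁ := E.subgroupOf K₁
  haveI : E'.Normal := ⟨fun y hy k => by
    rw [mem_subgroupOf] at hy ⊢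
    push_cast
    rw [hEcent k k.2 _ hy, mul_inv_cancel_right]
    exact hy⟩
  let q := QuotientGroup.mk' E'
  have hq1 : ∀ k : ↥K₁, q k = 1 ↔ (k : G) ∈ E := fun k => QuotientGroup.eq_one_iff k
  have hqM : ∀ k : ↥K₁, q k ∈ (M₀.subgroupOf K₁).map q → (k : G) ∈ M₀ := by
    rintro k ⟨m, hm, hmk⟩
    have h1 : q (m⁻¹ * k) = 1 := by rw [map_mul, map_inv, hmk, inv_mul_cancel]
    have h2 := hEM ((hq1 _).1 h1)
    push_cast at h2
    have := mul_mem (mem_subgroupOf.1 hm) h2
    rwa [mul_inv_cancel_left] at this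
  set T := (M₀.subgroupOf K₁).map q with hT
  have hTsq : ∀ t ∈ T, t * t = 1 := by
    rintro _ ⟨m, hm, rfl⟩
    rw [← map_mul, hq1]
    exact D.sq_mem _ hm
  have hTp : IsPGroup 2 T := fun t => ⟨1, Subtype.ext (by
    show (t : ↥K₁ ⧸ E') ^ 2 ^ 1 = 1
    rw [pow_one, pow_two, hTsq _ t.2])⟩
  have hTinv : ∀ t ∈ T, t⁻¹ = t := fun t ht => inv_eq_of_mul_eq_one_right (hTsq t ht)
  have hTcomm : ∀ s ∈ T, ∀ t ∈ T, s * t = t * s := fun s hs t ht => by
    calc s * t = (s * t)⁻¹ := (hTinv _ (mul_mem hs ht)).symm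
      _ = t * s := by rw [mul_inv_rev, hTinv s hs, hTinv t ht]
  have hTi : Odd T.index := D.odd.of_dvd_nat
    (Subgroup.index_map_dvd (M₀.subgroupOf K₁) (QuotientGroup.mk'_surjective E'))
  have hTrel : ∀ K : Subgroup (↥K₁ ⧸ E'), T ≤ K → Odd (T.relIndex K) := fun K hK =>
    hTi.of_dvd_nat (relIndex_dvd_index_of_le hK)
  have hT8 : 8 ≤ Nat.card T := by
    have h1 := Nat.card_congr (subgroupOfEquivOfLe D.le_K).toEquiv
    rw [D.card] at h1
    let φ := q.comp (M₀.subgroupOf K₁).subtype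
    have h2 : Nat.card ↥φ.ker * φ.ker.index = Nat.card ↥(M₀.subgroupOf K₁) :=
      φ.ker.card_mul_index
    rw [index_ker, show φ.range = T by rw [MonoidHom.range_comp, range_subtype], h1] at h2
    have h3 : Nat.card ↥φ.ker ≤ 2 := by
      classical
      let v : ↥φ.ker → G := fun k => (((k : ↥(M₀.subgroupOf K₁)) : ↥K₁) : G)
      let g : ↥φ.ker → Fin 2 := fun k => if v k = 1 then 0 else 1
      have hv : ∀ k, v k = 1 ∨ v k = e := fun k => mem_zpowers_involution he2 ((hq1 _).1 k.2)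
      have hg : Function.Injective g := by
        intro a b hab
        have hab' : v a = v b := by
          by_cases ha : v a = 1 <;> by_cases hb : v b = 1
          · rw [ha, hb]
          · simp [g, ha, hb] at hab
          · simp [g, ha, hb] at hab
          · rw [(hv a).resolve_left ha, (hv b).resolve_left hb]
        exact Subtype.ext (Subtype.ext (Subtype.ext hab'))
      exact (Nat.card_le_card_of_injective g hg).trans_eq (Nat.card_fin 2)
    by_contra hlt
    push Not at hlt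
    have := Nat.mul_le_mul h3 (Nat.le_of_lt_succ hlt)
    omega
  -- automisers
  have hauto : ∀ g : ↥K₁, q g ∈ normalizer (T : Set (↥K₁ ⧸ E')) →
      (g : G) ∈ normalizer (M₀ : Set G) := by
    intro g hg
    refine mem_normalizer_fintype fun m hm => ?_
    exact hqM (g * ⟨m, D.le_K hm⟩ * g⁻¹) (by
      rw [map_mul, map_mul, map_inv]
      exact (mem_normalizer_iff.1 hg _).1 ⟨⟨m, D.le_K hm⟩, hm, rfl⟩)
  have hcent : ∀ s ∈ T, s ≠ 1 → ∀ n ∈ centralizer ({s} : Set (↥K₁ ⧸ E')),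
      n ∈ normalizer (T : Set (↥K₁ ⧸ E')) → ∀ t ∈ T, n * t = t * n := by
    intro s hs hs1 n hns hnT
    obtain ⟨g, rfl⟩ := QuotientGroup.mk'_surjective E' n
    have hgM := hauto g hnT
    have hgP := hnormP _ hgM
    obtain ⟨o, ho, m, hm, hgom⟩ := M.frattini hM hgP
    have hoC := mem_centralizer_iff.1 (core_le _ ho)
    set σ := M.perm ⟨m, hm⟩ with hσdef
    have hσ : σ 4 = 4 := by
      rw [← Masks.fix_four σ (M.toPre.perm_sign _), ← M.commute_iff]
      have h1 : (g : G) * e = e * g := mem_centralizer_singleton_iff.1 (D.le_cent g.2)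
      have h2 : e * o = o * e := hoC e heP
      rw [hgom] at h1
      show m * e = e * m
      calc m * e = o⁻¹ * (o * m * e) := by group
        _ = o⁻¹ * (e * (o * m)) := by rw [h1]
        _ = o⁻¹ * (e * o) * m := by group
        _ = e * m := by rw [h2]; group
    have hPact : ∀ k ∈ Masks.flat, (g : G) * M.f k * (g : G)⁻¹ = M.f (Masks.act σ k) := by
      intro k hk
      have h1 : (g : G) * M.f k * (g : G)⁻¹ ∈ M.flatGroup :=
        (mem_normalizer_iff.1 hgP _).1 (M.f_mem_flat.2 hk)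
      have h2 : m * M.f k * m⁻¹ = M.f (Masks.act σ k) := M.f_conj ⟨m, hm⟩ k
      have h3 := hoC _ h1
      have h4 : (g : G) * M.f k * (g : G)⁻¹ = o * M.f (Masks.act σ k) * o⁻¹ := by
        rw [hgom, ← h2]; group
      calc (g : G) * M.f k * (g : G)⁻¹
          = o⁻¹ * (o * ((g : G) * M.f k * (g : G)⁻¹)) := by group
        _ = o⁻¹ * ((g : G) * M.f k * (g : G)⁻¹ * o) := by rw [h3]
        _ = M.f (Masks.act σ k) := by rw [h4]; group
    have hMact : ∀ c : ↥NA, (c : G) ∈ M₀ → ∀ h' : (g : G) * c * (g : G)⁻¹ ∈ NA,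
        M.perm ⟨_, h'⟩ = σ * M.perm c * σ⁻¹ := by
      intro c hc h'
      have hnP : ∀ x ∈ M.flatGroup, ∀ v : ↥NA, (v : G) ∈ M₀ → (v : G) * x * (v : G)⁻¹ ∈
          M.flatGroup := fun x hx v hv => hclosedP v x hx
        (mul_mem (mul_mem hv (D.flat_le hx)) (inv_mem hv))
      have hmP : m ∈ normalizer (M.flatGroup : Set G) := by
        have hoP : o ∈ normalizer (M.flatGroup : Set G) := mem_normalizer_fintype fun p hp => by
          rw [SetLike.mem_coe] at hp ⊢
          rwa [← hoC p hp, mul_inv_cancel_right]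
        rw [show m = o⁻¹ * (g : G) by rw [hgom]; group]
        exact mul_mem (inv_mem hoP) hgP
      have hcP : (c : G) ∈ normalizer (M.flatGroup : Set G) :=
        mem_normalizer_fintype fun x hx => hnP x hx c hc
      set c' : ↥NA := ⟨m, hm⟩ * c * ⟨m, hm⟩⁻¹ with hc'
      have hc'P : (c' : G) ∈ normalizer (M.flatGroup : Set G) := by
        show m * (c : G) * m⁻¹ ∈ _
        exact mul_mem (mul_mem hmP hcP) (inv_mem hmP)
      have hr : (g : G) * c * (g : G)⁻¹ * ((c' : G))⁻¹ ∈ core M.flatCent := by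
        have h1 := le_normalizer_iff.1
          ((M.normalizer_flat_le).trans (normalizer_le_normalizer_core _)) _ hc'P _ (inv_mem ho)
        have h2 := mul_mem ho h1
        have h3 : (g : G) * c * (g : G)⁻¹ * ((c' : G))⁻¹ =
            o * ((c' : G) * o⁻¹ * ((c' : G))⁻¹) := by
          rw [hgom, hc']; push_cast; group
        rw [h3]; exact h2
      have hk : M.toPre.perm (⟨_, h'⟩ * c'⁻¹) = 1 := M.flatCent_perm (core_le _ hr)
      rw [Pre.perm_mul, Pre.perm_inv, mul_inv_eq_one] at hk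
      rw [show M.perm ⟨_, h'⟩ = M.toPre.perm c' from hk, hc', Pre.perm_mul, Pre.perm_mul,
        Pre.perm_inv]
    have hgcg : ∀ c ∈ M₀, (g : G) * c * (g : G)⁻¹ ∈ M₀ := fun c hc =>
      (mem_normalizer_iff.1 hgM c).1 hc
    by_cases hV : σ ∈ Masks.four
    · -- the automiser is a 2-group
      have hflat : ∀ p, ∀ hp : p ∈ M.flatGroup,
          q g * q ⟨p, D.le_K (D.flat_le hp)⟩ * (q g)⁻¹ = q ⟨p, D.le_K (D.flat_le hp)⟩ := by
        intro p hp
        obtain ⟨k, hk, rfl⟩ := id hp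
        rw [← map_inv, ← map_mul, ← map_mul, ← mul_inv_eq_one, ← map_inv, ← map_mul, hq1]
        show (g : G) * M.f k * (g : G)⁻¹ * (M.f k)⁻¹ ∈ E
        rw [hPact k hk, M.toPre.inv_eq (M.f_mem k), ← M.f_mul]
        rcases Masks.four_flat σ (Masks.mem_four.1 hV) k hk with h | h <;> rw [h]
        · rw [M.f_zero]; exact one_mem E
        · exact mem_zpowers e
      have hP₀ : ∀ c ∈ M₀, (g : G) * c * (g : G)⁻¹ * c⁻¹ ∈ M.flatGroup := by
        intro c hc
        have hmem := mul_mem (hgcg c hc) (inv_mem hc)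
        refine D.ker ⟨_, D.le_N hmem⟩ hmem ?_
        have h2 : (⟨_, D.le_N hmem⟩ : ↥NA) = ⟨_, D.le_N (hgcg c hc)⟩ * ⟨c, D.le_N hc⟩⁻¹ := rfl
        show M.toPre.perm _ = 1
        rw [h2, Pre.perm_mul, Pre.perm_inv]
        show M.perm ⟨_, D.le_N (hgcg c hc)⟩ * (M.perm ⟨c, D.le_N hc⟩)⁻¹ = 1
        rw [hMact ⟨c, D.le_N hc⟩ hc (D.le_N (hgcg c hc)), mul_inv_eq_one]
        have hcV := D.perm_mem ⟨c, D.le_N hc⟩ hc
        have hcomm : ∀ u ∈ [1, Masks.s₁, Masks.s₂, Masks.s₃],
            ∀ v ∈ [1, Masks.s₁, Masks.s₂, Masks.s₃], u * v * u⁻¹ = v := by decide +kernel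
        exact hcomm _ (Masks.mem_four.1 hV) _ (Masks.mem_four.1 hcV)
      -- the square of `q g` centralises
      have hsq : ∀ t ∈ T, q g * q g * t = t * (q g * q g) := by
        rintro _ ⟨c, hc, rfl⟩
        have hp := hP₀ c hc
        set p : G := (g : G) * c * (g : G)⁻¹ * (c : G)⁻¹ with hpdef
        set p' : ↥K₁ := ⟨p, D.le_K (D.flat_le hp)⟩ with hp'
        have h1 : q g * q c * (q g)⁻¹ = q p' * q c := by
          rw [← map_inv, ← map_mul, ← map_mul, ← map_mul]
          congr 1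
          apply Subtype.ext
          show (g : G) * c * (g : G)⁻¹ = p * (c : G)
          rw [hpdef, inv_mul_cancel_right]
        have h3 : q p' * q p' = 1 := hTsq _ ⟨p', D.flat_le hp, rfl⟩
        have h2 : q g * q g * q c * (q g * q g)⁻¹ = q c := by
          calc q g * q g * q c * (q g * q g)⁻¹ = q g * (q g * q c * (q g)⁻¹) * (q g)⁻¹ := by group
            _ = (q g * q p' * (q g)⁻¹) * (q g * q c * (q g)⁻¹) := by
              conv_lhs => rw [h1]
              group
            _ = q p' * (q p' * q c) := by rw [hflat p hp, h1]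
            _ = q c := by rw [← mul_assoc, h3, one_mul]
        exact mul_inv_eq_iff_eq_mul.1 h2
      intro t ht
      obtain ⟨j, hj⟩ := hTrel _ (Subgroup.le_normalizer (H := T))
      haveI : (T.subgroupOf (normalizer (T : Set (↥K₁ ⧸ E')))).Normal := normal_in_normalizer
      have hpow : (q g) ^ T.relIndex (normalizer (T : Set (↥K₁ ⧸ E'))) ∈ T := by
        have h := pow_index_mem (T.subgroupOf (normalizer (T : Set (↥K₁ ⧸ E'))))
          ⟨q g, hnT⟩
        exact h
      have h1 : Commute ((q g) ^ (2 * j + 1)) t := hj ▸ hTcomm _ hpow t ht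
      have h2 : Commute ((q g * q g) ^ j) t :=
        (show Commute (q g * q g) t from hsq t ht).pow_left j
      have h3 : q g = ((q g * q g) ^ j)⁻¹ * (q g) ^ (2 * j + 1) := by
        rw [← pow_two, ← pow_mul, pow_succ, ← mul_assoc, inv_mul_cancel, one_mul]
      rw [h3]
      exact (h2.inv_left.mul_left h1).eq
    · obtain ⟨hfree, hfix⟩ := Masks.outer_free σ (M.toPre.perm_sign _) hσ
        (fun h => hV (Masks.mem_four.2 h))
      exfalso
      obtain ⟨c, hc, rfl⟩ := hs
      have hcM : (c : G) ∈ M₀ := hc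
      have hcomm := mem_centralizer_singleton_iff.1 hns
      have hE' : (g : G) * c * (g : G)⁻¹ * (c : G)⁻¹ ∈ E := by
        have : q (g * c * g⁻¹ * c⁻¹) = 1 := by
          simp only [map_mul, map_inv]
          rw [hcomm, mul_inv_cancel_right, mul_inv_cancel]
        exact (hq1 _).1 this
      have hp : σ * M.perm ⟨c, D.le_N hcM⟩ * σ⁻¹ = M.perm ⟨c, D.le_N hcM⟩ := by
        rw [← hMact ⟨c, D.le_N hcM⟩ hcM (D.le_N (hgcg c hcM))]
        have h1 : M.toPre.perm ⟨_, D.le_N (hEM hE')⟩ = 1 :=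
          M.toPre.perm_of_mem (Or.inl (show (g : G) * c * (g : G)⁻¹ * (c : G)⁻¹ ∈ A by
            rcases mem_zpowers_involution he2 hE' with h | h <;> rw [h]
            · exact one_mem A
            · exact heA))
        have h2 : (⟨_, D.le_N (hEM hE')⟩ : ↥NA) =
            ⟨_, D.le_N (hgcg c hcM)⟩ * ⟨c, D.le_N hcM⟩⁻¹ := rfl
        rw [h2, Pre.perm_mul, Pre.perm_inv, mul_inv_eq_one] at h1
        exact h1
      have hc1 : M.perm ⟨c, D.le_N hcM⟩ = 1 := by
        by_contra hne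
        have hmem := Masks.mem_four.1 (D.perm_mem ⟨c, D.le_N hcM⟩ hcM)
        rcases List.mem_cons.1 hmem with h | h
        · exact hne h
        · exact hfree _ h (mul_inv_eq_iff_eq_mul.1 hp)
      obtain ⟨k, hk, hkc⟩ := D.ker _ hcM hc1
      have hact : M.f (Masks.act σ k ^^^ k) ∈ E := by
        rw [M.f_mul, ← hPact k hk, hkc]
        have := M.toPre.inv_eq (M.flat_le ⟨k, hk, hkc⟩)
        rwa [this] at hE'
      have hk0 : k = 0 ∨ k = 15 := by
        refine hfix k hk ?_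
        rcases hmask _ hact with h | h
        · left
          have := M.f_mul (Masks.act σ k) k
          rw [h, M.f_zero] at this
          refine M.f_inj ?_
          rw [eq_inv_of_mul_eq_one_left this.symm, M.toPre.inv_eq (M.f_mem k)]
        · right
          refine M.f_inj ?_
          have h' := M.f_mul (Masks.act σ k) k
          rw [h] at h'
          rw [M.f_mul, h', M.toPre.comm (M.f_mem (Masks.act σ k)) (M.f_mem k), ← mul_assoc,
            M.sq _ (M.f_mem k), one_mul]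
      apply hs1
      show q c = 1
      rw [hq1, ← hkc]
      rcases hk0 with rfl | rfl
      · rw [M.f_zero]; exact one_mem E
      · exact mem_zpowers e
  -- the centralisers in the quotient
  have hgood : ∀ s ∈ T, s ≠ 1 → ∀ k ∈ centralizer ({s} : Set (↥K₁ ⧸ E')),
      ∃ o ∈ core (centralizer ({s} : Set (↥K₁ ⧸ E'))), ∃ n ∈ normalizer (T : Set (↥K₁ ⧸ E')),
        k = o * n := by
    intro s hs hs1 k hk
    have hTC : T ≤ centralizer ({s} : Set (↥K₁ ⧸ E')) := fun t ht =>
      mem_centralizer_singleton_iff.2 (hTcomm t ht s hs)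
    obtain ⟨o, ho, a, ha, rfl⟩ := burnside hTp hTC (hTrel _ hTC)
      (fun n hn hnT => hcent s hs hs1 n hn hnT) k hk
    exact ⟨o, ho, a, Subgroup.le_normalizer ha, rfl⟩
  have hTclosed : ∀ r : ↥K₁ ⧸ E', ∀ u ∈ T, r * u * r⁻¹ ∈ normalizer (T : Set (↥K₁ ⧸ E')) →
      r * u * r⁻¹ ∈ T := by
    intro r u hu hru
    haveI : (T.subgroupOf (normalizer (T : Set (↥K₁ ⧸ E')))).Normal := normal_in_normalizer
    have hpow : (r * u * r⁻¹) ^ T.relIndex (normalizer (T : Set (↥K₁ ⧸ E'))) ∈ T :=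
      pow_index_mem (T.subgroupOf (normalizer (T : Set (↥K₁ ⧸ E')))) ⟨_, hru⟩
    obtain ⟨j, hj⟩ := hTrel _ (Subgroup.le_normalizer (H := T))
    rw [hj, conj_pow, pow_succ, pow_mul, pow_two, hTsq u hu, one_pow, one_mul] at hpow
    exact hpow
  have htwo : ∃ u ∈ T, ∃ v ∈ T, u ≠ 1 ∧ v ≠ 1 ∧ ¬ IsConj u v := by
    obtain ⟨x, hxM, hx1⟩ := D.outer
    have h3 : M.f 3 ∈ M₀ := D.flat_le (M.f_mem_flat.2 (by decide))
    have hne : ∀ y : ↥NA, (y : G) ∈ E → M.perm y = 1 := fun y hy => M.toPre.perm_of_mem (Or.inl (by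
      rcases mem_zpowers_involution he2 hy with h | h <;> rw [h]
      · exact one_mem A
      · exact heA))
    refine ⟨q ⟨_, D.le_K h3⟩, ⟨_, h3, rfl⟩, q ⟨_, D.le_K hxM⟩, ⟨_, hxM, rfl⟩, fun h => ?_,
      fun h => hx1 (hne x ((hq1 _).1 h)), fun h => ?_⟩
    · rcases hmask 3 ((hq1 _).1 h) with h' | h' <;> exact absurd h' (by decide)
    · obtain ⟨r, hr⟩ := isConj_iff.1 h
      obtain ⟨g, rfl⟩ := QuotientGroup.mk'_surjective E' r
      set c : ↥K₁ := g * ⟨_, D.le_K h3⟩ * g⁻¹ with hc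
      have hqc : q c = q ⟨_, D.le_K hxM⟩ := by rw [hc, map_mul, map_mul, map_inv]; exact hr
      have hcM : (c : G) ∈ M₀ := hqM c (hqc ▸ ⟨_, hxM, rfl⟩)
      have hcA : (c : G) ∈ A := hM.closed (g : G) _ (M.f_mem 3) (D.le_N hcM)
      have hcx : ((c : G))⁻¹ * (x : G) ∈ E := by
        have h1 : q (c⁻¹ * ⟨_, D.le_K hxM⟩) = 1 := by rw [map_mul, map_inv, hqc, inv_mul_cancel]
        exact (hq1 _).1 h1
      have h1 : M.toPre.perm (⟨c, Subgroup.le_normalizer hcA⟩⁻¹ * x) = 1 := hne _ hcx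
      rw [Pre.perm_mul, Pre.perm_inv, M.toPre.perm_of_mem (Or.inl hcA), inv_one, one_mul] at h1
      exact hx1 h1
  have hTnormal := General.main T hTsq hT8
    (hTrel _ (fun t ht => mem_centralizer_iff.2 fun s hs => hTcomm s hs t ht)) hTclosed hgood htwo
  -- lift
  set R := Cfsg.oddCore (↥K₁ ⧸ E') with hR
  haveI : R.Normal := by rw [hR]; infer_instance
  haveI := hTnormal
  let R' : Subgroup G := (R.comap q).map K₁.subtype
  have hR'mem : ∀ k : ↥K₁, (k : G) ∈ R' ↔ q k ∈ R := fun k =>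
    (Subgroup.mem_map_iff_mem K₁.subtype_injective).trans Iff.rfl
  have hER : E ≤ R' := fun y hy => (hR'mem ⟨y, D.le_K (hEM hy)⟩).2 (by
    rw [(hq1 _).2 hy]; exact one_mem R)
  have hEp : IsPGroup 2 E := fun y => ⟨1, Subtype.ext (by
    show (y : G) ^ 2 ^ 1 = 1
    rcases mem_zpowers_involution he2 y.2 with h | h <;> rw [h] <;> simp [pow_two, he2])⟩
  have hEodd : Odd (E.relIndex R') := by
    have h1 : E.relIndex R' = (E'.relIndex (R.comap q)) := by
      rw [← relIndex_map_map_of_injective _ _ K₁.subtype_injective, subgroupOf_map_subtype,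
        inf_eq_left.2 (hEM.trans D.le_K)]
    have h2 : E'.relIndex (R.comap q) = ((⊥ : Subgroup (↥K₁ ⧸ E')).comap q).relIndex (R.comap q) := by
      rw [MonoidHom.comap_bot, QuotientGroup.ker_mk']
    rw [h1, h2, relIndex_comap, Subgroup.map_comap_eq_self_of_surjective (QuotientGroup.mk'_surjective E'),
      relIndex_bot_left]
    exact Cores.oddCore_odd
  have hR'split := burnside hEp hER hEodd fun n hn _ y hy =>
    hEcent n (map_subtype_le (R.comap q) hn) y hy
  have hR'K : K₁ ≤ normalizer (R' : Set G) := by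
    haveI : (R'.subgroupOf K₁).Normal := by
      rw [show R'.subgroupOf K₁ = R.comap q from comap_map_eq_self_of_injective
        K₁.subtype_injective _]
      infer_instance
    exact (normal_subgroupOf_iff_le_normalizer (map_subtype_le (R.comap q))).1 inferInstance
  intro k hk
  have hB : T.map (MulAut.conj (q ⟨k, hk⟩)).toMonoidHom ≤ T ⊔ R := by
    rintro _ ⟨t, ht, rfl⟩
    exact hTnormal.conj_mem t (mem_sup_left ht) _
  obtain ⟨r, hr, hrT⟩ := exists_conj_into (hTp.map _) hB (hTrel _ le_sup_left)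
  obtain ⟨ρ, hρ, t, ht, rfl⟩ := mem_sup_of_normal_left.1 (sup_comm T R ▸ hr)
  obtain ⟨ρ₀, rfl⟩ := QuotientGroup.mk'_surjective E' ρ
  have hn : (q ρ₀)⁻¹ * q ⟨k, hk⟩ ∈ normalizer (T : Set (↥K₁ ⧸ E')) :=
    mem_normalizer_fintype fun u hu => by
      have h := mul_mem (mul_mem ht (hrT _ ⟨u, hu, rfl⟩)) (inv_mem ht)
      show (q ρ₀)⁻¹ * q ⟨k, hk⟩ * u * ((q ρ₀)⁻¹ * q ⟨k, hk⟩)⁻¹ ∈ T
      rwa [show t * ((q ρ₀ * t)⁻¹ * (MulAut.conj (q ⟨k, hk⟩)).toMonoidHom u * (q ρ₀ * t)) * t⁻¹ =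
        (q ρ₀)⁻¹ * q ⟨k, hk⟩ * u * ((q ρ₀)⁻¹ * q ⟨k, hk⟩)⁻¹ by simp [mul_assoc]] at h
  obtain ⟨o, ho, y, hy, hρ₀⟩ := hR'split (ρ₀ : G) ((hR'mem ρ₀).2 hρ)
  have hg := hauto (ρ₀⁻¹ * ⟨k, hk⟩) (by rw [map_mul, map_inv]; exact hn)
  refine ⟨o, core_le_core (map_subtype_le (R.comap q))
    (hR'K.trans (normalizer_le_normalizer_core R')) ho,
    y * ((ρ₀⁻¹ * ⟨k, hk⟩ : ↥K₁) : G),
    mul_mem (hnormP _ (Subgroup.le_normalizer (hEM hy))) (hnormP _ hg), ?_⟩
  push_cast
  rw [hρ₀]; group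

end Model

end Cfsg.Agent.StronglyClosedFour
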