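import Cfsg.Agent.Lib.StronglyClosedFour.Basic
import Cfsg.Agent.Lib.StronglyClosedFour.Masks
import Cfsg.Agent.Lib.Cores.Nilpotent
import Mathlib.GroupTheory.SpecificGroups.Alternating.Simple

/-!
# The normaliser of an elementary abelian group of order 16 with quotient `Alt(5)`

Under the condition that a Sylow 2-subgroup of order 64 has centre of order at most 2, the
four-group is the deleted permutation module of `Alt(5)`.
-/

set_option autoImplicit false
set_option maxHeartbeats 1000000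
set_option linter.style.haveILetI false

namespace Cfsg.Agent.StronglyClosedFour

open Subgroup Equiv

universe u

variable {G : Type u} [Group G] [Finite G]

/-- The hypotheses on `A` and its normaliser. -/
structure Pre (A : Subgroup G) where
  sq : ∀ a ∈ A, a * a = 1
  card : Nat.card A = 16
  π : ↥(normalizer (A : Set G)) →* ↥(alternatingGroup (Fin 5))
  surj : Function.Surjective π
  ker : ∀ n : ↥(normalizer (A : Set G)), π n = 1 →
    ∃ a ∈ A, ∃ o ∈ core (normalizer (A : Set G)), (n : G) = a * o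
  ker' : ∀ n : ↥(normalizer (A : Set G)),
    (n : G) ∈ A ∨ (n : G) ∈ core (normalizer (A : Set G)) → π n = 1
  order : ∃ r, Odd r ∧ Nat.card G = 64 * r
  centre : ∀ T : Subgroup G, IsPGroup 2 T → Nat.card T = 64 → Nat.card (Subgroup.center ↥T) ≤ 2

namespace Pre

variable {A : Subgroup G} (h : Pre A)
include h

set_option linter.unusedSectionVars false

local notation "NA" => normalizer (A : Set G)
local notation "ON" => core (normalizer (A : Set G))

/-- The permutation of five points. -/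
def perm (n : ↥(normalizer (A : Set G))) : Perm (Fin 5) := (h.π n : Perm (Fin 5))

theorem perm_mul (m n : ↥NA) : h.perm (m * n) = h.perm m * h.perm n := by
  simp [perm]

theorem perm_one : h.perm 1 = 1 := by
  simp [perm]

theorem perm_inv (n : ↥NA) : h.perm n⁻¹ = (h.perm n)⁻¹ := by
  simp [perm]

theorem perm_sign (n : ↥NA) : Perm.sign (h.perm n) = 1 := Perm.mem_alternatingGroup.1 (h.π n).2

theorem perm_lift {σ : Perm (Fin 5)} (hσ : Perm.sign σ = 1) : ∃ n : ↥NA, h.perm n = σ := by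
  obtain ⟨n, hn⟩ := h.surj ⟨σ, Perm.mem_alternatingGroup.2 hσ⟩
  exact ⟨n, by rw [perm, hn]⟩

theorem perm_eq_one {n : ↥NA} (hn : h.perm n = 1) :
    ∃ a ∈ A, ∃ o ∈ ON, (n : G) = a * o := h.ker n (Subtype.ext hn)

theorem perm_of_mem {n : ↥NA} (hn : (n : G) ∈ A ∨ (n : G) ∈ ON) : h.perm n = 1 := by
  rw [perm, h.ker' n hn]; rfl

theorem inv_eq {a : G} (ha : a ∈ A) : a⁻¹ = a := inv_eq_of_mul_eq_one_right (h.sq a ha)

theorem comm {a b : G} (ha : a ∈ A) (hb : b ∈ A) : a * b = b * a :=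
  calc a * b = (a * b)⁻¹ := (h.inv_eq (mul_mem ha hb)).symm
    _ = b * a := by rw [mul_inv_rev, h.inv_eq ha, h.inv_eq hb]

theorem two_group : IsPGroup 2 A := fun a => ⟨1, Subtype.ext (by
  show (a : G) ^ 2 ^ 1 = 1
  rw [pow_one, pow_two, h.sq _ a.2])⟩

theorem disjoint {x : G} (hA : x ∈ A) (hO : x ∈ ON) : x = 1 :=
  eq_one_of_two_group (core_odd _) h.two_group hO hA

theorem comm_core {a o : G} (ha : a ∈ A) (ho : o ∈ ON) : a * o = o * a := by
  have hoN := core_le _ ho
  have h1 : a * o * a⁻¹ * o⁻¹ ∈ A := by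
    rw [show a * o * a⁻¹ * o⁻¹ = a * (o * a⁻¹ * o⁻¹) by group]
    exact mul_mem ha ((mem_normalizer_iff.1 hoN _).1 (inv_mem ha))
  have h2 : a * o * a⁻¹ * o⁻¹ ∈ ON :=
    mul_mem (le_normalizer_iff.1 (le_normalizer_core _) a (Subgroup.le_normalizer ha) o ho)
      (inv_mem ho)
  calc a * o = a * o * a⁻¹ * o⁻¹ * (o * a) := by group
    _ = o * a := by rw [h.disjoint h1 h2, one_mul]

theorem centralises_of_perm_one {n : ↥NA} (hn : h.perm n = 1) {a : G} (ha : a ∈ A) :
    (n : G) * a = a * n := by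
  obtain ⟨b, hb, o, ho, he⟩ := h.perm_eq_one hn
  rw [he, mul_assoc, ← h.comm_core ha ho, ← mul_assoc, h.comm hb ha, mul_assoc]

theorem card_normalizer : Nat.card ↥NA = 64 * (15 * Nat.card ↥ON) := by
  have h1 : Nat.card ↥(alternatingGroup (Fin 5)) * Nat.card ↥h.π.ker = Nat.card ↥NA := by
    rw [← h.π.ker.card_mul_index, index_ker, MonoidHom.range_eq_top.2 h.surj, card_top, mul_comm]
  have h60 : Nat.card ↥(alternatingGroup (Fin 5)) = 60 := by
    rw [Nat.card_eq_fintype_card]; decide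
  have hle : A ≤ NA := Subgroup.le_normalizer
  let e : ↥A × ↥ON → ↥h.π.ker := fun p =>
    ⟨⟨p.1 * p.2, mul_mem (hle p.1.2) (core_le _ p.2.2)⟩, by
      rw [MonoidHom.mem_ker, show (⟨(p.1 : G) * p.2, _⟩ : ↥NA) =
        ⟨p.1, hle p.1.2⟩ * ⟨p.2, core_le _ p.2.2⟩ from rfl, map_mul, h.ker' _ (Or.inl p.1.2),
        h.ker' _ (Or.inr p.2.2), one_mul]⟩
  have he : Function.Bijective e := by
    constructor
    · rintro ⟨a, o⟩ ⟨a', o'⟩ heq
      have heq' : (a : G) * o = a' * o' := congrArg (fun x : ↥h.π.ker => ((x : ↥NA) : G)) heq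
      have h2 : (a' : G)⁻¹ * a = o' * (o : G)⁻¹ := by
        calc (a' : G)⁻¹ * a = (a' : G)⁻¹ * (a * o) * (o : G)⁻¹ := by group
          _ = o' * (o : G)⁻¹ := by rw [heq']; group
      have h3 := h.disjoint (mul_mem (inv_mem a'.2) a.2) (h2 ▸ mul_mem o'.2 (inv_mem o.2))
      refine Prod.ext (Subtype.ext (inv_mul_eq_one.1 h3).symm) (Subtype.ext ?_)
      rw [h3] at h2
      exact (mul_inv_eq_one.1 h2.symm).symm
    · rintro ⟨n, hn⟩
      obtain ⟨a, ha, o, ho, heq⟩ := h.ker n hn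
      exact ⟨(⟨a, ha⟩, ⟨o, ho⟩), Subtype.ext (Subtype.ext heq.symm)⟩
  rw [← Nat.card_congr (Equiv.ofBijective e he), Nat.card_prod, h.card, h60] at h1
  omega

theorem odd_index : Odd (normalizer (A : Set G)).index := by
  obtain ⟨r, hr, hG⟩ := h.order
  have h1 := Subgroup.card_mul_index (normalizer (A : Set G))
  rw [h.card_normalizer, hG, mul_assoc] at h1
  exact hr.of_dvd_nat ⟨15 * Nat.card ↥ON, by rw [← mul_left_cancel₀ (by norm_num : (64 : ℕ) ≠ 0) h1, mul_comm]⟩

theorem card_two_dvd {T : Subgroup G} (hT : IsPGroup 2 T) : Nat.card T ∣ 64 := by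
  haveI : Fact (Nat.Prime 2) := ⟨Nat.prime_two⟩
  obtain ⟨r, hr, hG⟩ := h.order
  obtain ⟨k, hk⟩ := IsPGroup.iff_card.1 hT
  have h1 := T.card_subgroup_dvd_card
  rw [hG, hk] at h1
  rw [hk]
  exact (hr.coprime_two_left.pow_left k).dvd_of_dvd_mul_right h1

/-- A Sylow 2-subgroup of `G` inside the normaliser, containing `A`, with four images. -/
theorem exists_sylow : ∃ T : Subgroup G, IsPGroup 2 T ∧ T ≤ NA ∧ A ≤ T ∧ Nat.card T = 64 := by
  haveI : Fact (Nat.Prime 2) := ⟨Nat.prime_two⟩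
  obtain ⟨T₀, hT₀⟩ := Sylow.exists_subgroup_card_pow_prime 2 (G := ↥NA) (n := 6)
    (by rw [h.card_normalizer]; exact dvd_mul_right _ _)
  set T₁ := T₀.map (normalizer (A : Set G)).subtype with hT₁
  have hc : Nat.card T₁ = 2 ^ 6 := by rw [card_map_of_injective (subtype_injective _), hT₀]
  have hp : IsPGroup 2 T₁ := IsPGroup.of_card hc
  have hsup : IsPGroup 2 ↥(A ⊔ T₁) :=
    h.two_group.to_sup_of_normal_left' hp (map_subtype_le T₀)
  have h1 := Nat.le_of_dvd (by norm_num) (h.card_two_dvd hsup)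
  have he : T₁ = A ⊔ T₁ := eq_of_le_of_card_ge le_sup_right (by rw [hc]; exact h1)
  exact ⟨T₁, hp, map_subtype_le T₀, he ▸ le_sup_left, hc⟩

theorem faithful {n : ↥NA} (hn : ∀ a ∈ A, (n : G) * a = a * n) : h.perm n = 1 := by
  let Cn : Subgroup ↥NA := (centralizer (A : Set G)).subgroupOf NA
  haveI : Cn.Normal := ⟨fun c hc g => by
    rw [mem_subgroupOf, mem_centralizer_iff] at hc ⊢
    intro a ha
    have ha' : (g : G)⁻¹ * a * g ∈ A := (mem_normalizer_iff''.1 g.2 a).1 ha
    have := hc _ ha'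
    push_cast
    calc a * ((g : G) * c * (g : G)⁻¹) = g * (((g : G)⁻¹ * a * g) * c) * (g : G)⁻¹ := by group
      _ = g * ((c : G) * ((g : G)⁻¹ * a * g)) * (g : G)⁻¹ := by rw [this]
      _ = g * c * (g : G)⁻¹ * a := by group⟩
  have hnorm := Subgroup.Normal.map (H := Cn) inferInstance h.π h.surj
  rcases hnorm.eq_bot_or_eq_top with hb | ht
  · have : h.π n ∈ Cn.map h.π := mem_map_of_mem _ (mem_subgroupOf.2
      (mem_centralizer_iff.2 fun a ha => (hn a ha).symm))
    rw [hb, mem_bot] at this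
    rw [perm, this]; rfl
  · exfalso
    haveI : Fact (Nat.Prime 2) := ⟨Nat.prime_two⟩
    have hcentral : ∀ m : ↥NA, ∀ a ∈ A, (m : G) * a = a * m := by
      intro m a ha
      have : h.π m ∈ Cn.map h.π := ht.symm ▸ mem_top _
      obtain ⟨c, hc, hcm⟩ := this
      have hk : h.perm (c⁻¹ * m) = 1 := by
        rw [perm, map_mul, map_inv, hcm, inv_mul_cancel]; rfl
      have h1 := h.centralises_of_perm_one hk ha
      have h2 := (mem_centralizer_iff.1 (mem_subgroupOf.1 hc) a ha).symm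
      push_cast at h1
      calc (m : G) * a = c * (((c : G)⁻¹ * m) * a) := by group
        _ = c * a * ((c : G)⁻¹ * m) := by rw [h1, mul_assoc]
        _ = a * c * ((c : G)⁻¹ * m) := by rw [h2]
        _ = a * m := by group
    obtain ⟨T, hT, hTN, hAT, h64⟩ := h.exists_sylow
    have hle : A.subgroupOf T ≤ Subgroup.center ↥T := fun a ha => Subgroup.mem_center_iff.2
      fun t => Subtype.ext (hcentral ⟨t, hTN t.2⟩ a ha)
    have h1 := card_le_card_group (G := ↥T) (A.subgroupOf T)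
    have h2 := Nat.le_of_dvd Nat.card_pos (card_dvd_of_le hle)
    rw [Nat.card_congr (subgroupOfEquivOfLe hAT).toEquiv, h.card] at h2
    have h3 := h.centre T hT h64
    omega

theorem trivial_fixed {c : ↥NA} (hc : h.perm c = Masks.c₅) {a : G} (ha : a ∈ A)
    (hfix : (c : G) * a = a * c) : a = 1 := by
  haveI : Fact (Nat.Prime 5) := ⟨by norm_num⟩
  obtain ⟨k, r, hr, hk⟩ := Nat.exists_eq_pow_mul_and_not_dvd (orderOf_pos c).ne' 5 (by norm_num)
  set d := c ^ r with hd
  have hd5 : d ^ 5 ^ k = 1 := by rw [hd, ← pow_mul, mul_comm, ← hk, pow_orderOf_eq_one]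
  let P : Subgroup ↥NA := zpowers d
  have hP : IsPGroup 5 P := by
    intro x
    refine ⟨k, Subtype.ext ?_⟩
    obtain ⟨i, hi⟩ := x.2
    rw [SubmonoidClass.coe_pow, OneMemClass.coe_one, ← hi]
    simp only
    rw [← zpow_natCast, ← zpow_mul, mul_comm, zpow_mul, zpow_natCast, hd5, one_zpow]
  let A' : Subgroup ↥NA := A.subgroupOf NA
  haveI : A'.Normal := normal_in_normalizer
  letI : MulAction ↥P ↥A' := MulAction.compHom ↥A'
    ((MulAut.conjNormal : ↥NA →* MulAut ↥A').comp P.subtype)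
  have h16 : Nat.card ↥A' = 16 := by
    rw [Nat.card_congr (subgroupOfEquivOfLe Subgroup.le_normalizer).toEquiv, h.card]
  have hmod := hP.card_modEq_card_fixedPoints ↥A'
  let F : Subgroup ↥A' := (centralizer (P : Set ↥NA)).subgroupOf A'
  have hfixed : ∀ x : ↥A', x ∈ MulAction.fixedPoints ↥P ↥A' ↔ x ∈ F := by
    intro x
    rw [MulAction.mem_fixedPoints, mem_subgroupOf, mem_centralizer_iff]
    constructor
    · intro hx p hp
      have h1 : (p * x * p⁻¹ : ↥NA) = x := by
        have := congrArg Subtype.val (hx ⟨p, hp⟩)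
        exact (MulAut.conjNormal_apply p x).symm.trans this
      exact mul_inv_eq_iff_eq_mul.1 h1
    · intro hx p
      have h1 : ((p : ↥NA) * x * (p : ↥NA)⁻¹ : ↥NA) = x := mul_inv_eq_iff_eq_mul.2 (hx p p.2)
      exact Subtype.ext ((MulAut.conjNormal_apply (p : ↥NA) x).trans h1)
  rw [Nat.card_congr (Equiv.subtypeEquivRight hfixed : _ ≃ ↥F), h16] at hmod
  have hFd : Nat.card ↥F ∣ 2 ^ 4 := by rw [show (2:ℕ)^4 = 16 from rfl, ← h16]; exact F.card_subgroup_dvd_card
  obtain ⟨j, hj, hFj⟩ := (Nat.dvd_prime_pow Nat.prime_two).1 hFd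
  have haF : (⟨⟨a, Subgroup.le_normalizer ha⟩, ha⟩ : ↥A') ∈ F := by
    rw [mem_subgroupOf, mem_centralizer_iff]
    intro p hp
    obtain ⟨i, rfl⟩ := hp
    have hcom : Commute c ⟨a, Subgroup.le_normalizer ha⟩ := Subtype.ext hfix
    exact ((hcom.pow_left r).zpow_left i).eq
  rw [Nat.ModEq, hFj] at hmod
  interval_cases j
  · have : F = ⊥ := eq_bot_of_card_eq F (by simpa using hFj)
    rw [this, mem_bot] at haF
    exact congrArg (fun x : ↥A' => ((x : ↥NA) : G)) haF
  all_goals first | omega | skip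
  exfalso
  have hFtop : F = ⊤ := eq_top_of_card_eq F (by rw [h16, hFj]; norm_num)
  have h1 : h.perm d = 1 := h.faithful fun b hb => by
    have hb' : (⟨⟨b, Subgroup.le_normalizer hb⟩, hb⟩ : ↥A') ∈ F := hFtop ▸ mem_top _
    rw [mem_subgroupOf, mem_centralizer_iff] at hb'
    exact congrArg Subtype.val (hb' d (mem_zpowers d))
  have h2 : h.perm d = Masks.c₅ ^ r := by
    rw [hd, perm, map_pow, SubmonoidClass.coe_pow, ← hc]; rfl
  obtain ⟨-, -, -, -, -, hne, h5⟩ := Masks.c₅_apply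
  have ho : orderOf Masks.c₅ = 5 := orderOf_eq_prime h5 hne
  exact hr (ho ▸ orderOf_dvd_of_pow_eq_one (h2.symm.trans h1))

/-- A vector fixed exactly by a point stabiliser. -/
theorem exists_base : ∃ a ∈ A, a ≠ 1 ∧
    ∀ n : ↥NA, ((n : G) * a = a * n ↔ h.perm n 4 = 4) := by
  haveI : Fact (Nat.Prime 2) := ⟨Nat.prime_two⟩
  obtain ⟨T, hT, hTN, hAT, h64⟩ := h.exists_sylow
  obtain ⟨s11, s22, s33, s12, s13, s23, q1, q2, q3, p12, p21, p13, p31, p23, p32⟩ :=
    Masks.four_spec
  obtain ⟨g1, g2, g3, gc, gf⟩ := Masks.signs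
  -- the standard four-group
  let V : Subgroup (Perm (Fin 5)) :=
    { carrier := {σ | σ = 1 ∨ σ = Masks.s₁ ∨ σ = Masks.s₂ ∨ σ = Masks.s₃}
      one_mem' := Or.inl rfl
      mul_mem' := by
        rintro σ τ (rfl | rfl | rfl | rfl) (rfl | rfl | rfl | rfl) <;>
          simp [q1, q2, q3, p12, p21, p13, p31, p23, p32]
      inv_mem' := by
        rintro σ (rfl | rfl | rfl | rfl) <;>
          simp [inv_eq_of_mul_eq_one_right q1, inv_eq_of_mul_eq_one_right q2,
            inv_eq_of_mul_eq_one_right q3] }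
  let V' : Subgroup ↥(alternatingGroup (Fin 5)) := V.subgroupOf (alternatingGroup (Fin 5))
  have hVA : V ≤ alternatingGroup (Fin 5) := by
    rintro σ (rfl | rfl | rfl | rfl) <;> simp [Perm.mem_alternatingGroup, g1, g2, g3]
  have hV4 : Nat.card ↥V' = 4 := by
    rw [Nat.card_congr (subgroupOfEquivOfLe hVA).toEquiv]
    show Nat.card ↥({σ | σ = 1 ∨ σ = Masks.s₁ ∨ σ = Masks.s₂ ∨ σ = Masks.s₃} :
      Set (Perm (Fin 5))) = 4
    rw [show {σ | σ = 1 ∨ σ = Masks.s₁ ∨ σ = Masks.s₂ ∨ σ = Masks.s₃} =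
      ({1, Masks.s₁, Masks.s₂, Masks.s₃} : Set (Perm (Fin 5))) from rfl, Nat.card_coe_set_eq,
      Set.ncard_eq_toFinset_card']
    decide +kernel
  have hV15 : Odd (V'.relIndex ⊤) := by
    rw [relIndex_top_right]
    have h1 := V'.card_mul_index
    have h60 : Nat.card ↥(alternatingGroup (Fin 5)) = 60 := by
      rw [Nat.card_eq_fintype_card]; decide
    rw [hV4, h60] at h1
    exact ⟨7, by omega⟩
  let T' : Subgroup ↥NA := T.subgroupOf NA
  obtain ⟨g, -, hg⟩ := exists_conj_into ((hT.of_equiv (subgroupOfEquivOfLe hTN).symm).map h.π :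
    IsPGroup 2 ↥(T'.map h.π)) le_top hV15
  obtain ⟨m, rfl⟩ := h.surj g
  -- the conjugate Sylow subgroup
  have hTker : ∀ t : ↥NA, (t : G) ∈ T → h.perm t = 1 → (t : G) ∈ A := by
    intro t ht h1
    obtain ⟨a, ha, o, ho, he⟩ := h.perm_eq_one h1
    have hoT : o ∈ T := by
      rw [show o = a⁻¹ * t by rw [he]; group]
      exact mul_mem (inv_mem (hAT ha)) ht
    rw [he, eq_one_of_two_group (core_odd _) hT ho hoT, mul_one]
    exact ha
  -- the images of the Sylow subgroup cover the four-group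
  have hcover : ∀ σ ∈ V', ∃ t : ↥NA, (t : G) ∈ T ∧ (h.π m)⁻¹ * h.π t * h.π m = σ := by
    have hle : (T'.map h.π).map (MulAut.conj (h.π m)⁻¹).toMonoidHom ≤ V' := by
      rintro _ ⟨x, hx, rfl⟩
      simpa using hg x hx
    have hc4 : Nat.card ↥(T'.map h.π) * 16 = 64 := by
      have h1 : Nat.card ↥(h.π.comp T'.subtype).range * Nat.card ↥(h.π.comp T'.subtype).ker =
          Nat.card ↥T' := by
        rw [← (h.π.comp T'.subtype).ker.card_mul_index, index_ker, mul_comm]
      rw [MonoidHom.range_comp, range_subtype, Nat.card_congr (subgroupOfEquivOfLe hTN).toEquiv,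
        h64] at h1
      have h2 : (h.π.comp T'.subtype).ker = (A.subgroupOf NA).subgroupOf T' := by
        ext x
        constructor
        · intro hx
          exact hTker x.1 x.2 (by
            rw [perm, show h.π x.1 = 1 from hx]; rfl)
        · intro hx
          exact h.ker' x.1 (Or.inl hx)
      rw [h2, Nat.card_congr (subgroupOfEquivOfLe
          (show A.subgroupOf NA ≤ T' from fun x hx => hAT hx)).toEquiv,
        Nat.card_congr (subgroupOfEquivOfLe Subgroup.le_normalizer).toEquiv, h.card] at h1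
      exact h1
    have he := eq_of_le_of_card_ge hle (by
      rw [hV4, card_map_of_injective (MulAut.conj (h.π m)⁻¹).injective]; omega)
    intro σ hσ
    rw [← he] at hσ
    obtain ⟨_, ⟨t, ht, rfl⟩, rfl⟩ := hσ
    exact ⟨t, ht, by simp⟩
  -- a vector fixed by the Sylow subgroup
  haveI : Group.IsNilpotent ↥T := hT.isNilpotent
  haveI : (A.subgroupOf T).Normal := normal_subgroupOf_of_le_normalizer hTN
  have hbot : A.subgroupOf T ≠ ⊥ := by
    intro hb
    have := congrArg (fun X : Subgroup ↥T => Nat.card X) hb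
    simp only [card_bot, Nat.card_congr (subgroupOfEquivOfLe hAT).toEquiv, h.card] at this
    omega
  obtain ⟨z, hz, hz1⟩ := (bot_or_exists_ne_one (A.subgroupOf T ⊓ Subgroup.center ↥T)).resolve_left
    (Cores.inf_center_ne_bot hbot)
  obtain ⟨hzA, hzc⟩ := mem_inf.1 hz
  have huniq : ∀ b ∈ A, b ≠ 1 → (∀ t ∈ T, t * b = b * t) → b = (z : G) := by
    intro b hb hb1 hbc
    by_contra hne
    classical
    haveI := Fintype.ofFinite ↥(Subgroup.center ↥T)
    let z' : ↥(Subgroup.center ↥T) := ⟨z, hzc⟩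
    let b' : ↥(Subgroup.center ↥T) :=
      ⟨⟨b, hAT hb⟩, Subgroup.mem_center_iff.2 fun t => Subtype.ext (hbc t t.2)⟩
    have e1 : (1 : ↥(Subgroup.center ↥T)) ≠ z' := fun e =>
      hz1 (congrArg (fun x : ↥(Subgroup.center ↥T) => (x : ↥T)) e).symm
    have e2 : (1 : ↥(Subgroup.center ↥T)) ≠ b' := fun e =>
      hb1 (congrArg (fun x : ↥(Subgroup.center ↥T) => ((x : ↥T) : G)) e).symm
    have e3 : z' ≠ b' := fun e =>
      hne (congrArg (fun x : ↥(Subgroup.center ↥T) => ((x : ↥T) : G)) e).symm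
    have h1 := Finset.card_le_univ ({1, z', b'} : Finset ↥(Subgroup.center ↥T))
    rw [Finset.card_eq_three.2 ⟨_, _, _, e1, e2, e3, rfl⟩, ← Nat.card_eq_fintype_card] at h1
    have := h.centre T hT h64
    omega
  set a : G := (m : G)⁻¹ * z * m with ha_def
  have haA : a ∈ A := (mem_normalizer_iff''.1 m.2 _).1 hzA
  have ha1 : a ≠ 1 := fun h1 => hz1 (Subtype.ext (by
    calc (z : G) = m * a * (m : G)⁻¹ := by rw [ha_def]; group
      _ = 1 := by rw [h1, mul_one, mul_inv_cancel]))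
  -- fixed by the standard four-group, and the only such
  have hVfix : ∀ n : ↥NA, (h.perm n ∈ V) → (n : G) * a = a * n := by
    intro n hn
    obtain ⟨t, ht, he⟩ := hcover ⟨h.perm n, Perm.mem_alternatingGroup.2 (h.perm_sign n)⟩ hn
    have hk : h.perm ((m⁻¹ * t * m)⁻¹ * n) = 1 := by
      rw [perm, map_mul, map_inv, map_mul, map_mul, map_inv, he]
      simp [perm]
    have h1 := h.centralises_of_perm_one hk haA
    have h2 : (t : G) * z = z * t :=
      congrArg Subtype.val (Subgroup.mem_center_iff.1 hzc ⟨t, ht⟩)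
    push_cast at h1
    have h3 : (m : G)⁻¹ * t * m * a = a * ((m : G)⁻¹ * t * m) := by
      rw [ha_def]
      calc (m : G)⁻¹ * t * m * ((m : G)⁻¹ * z * m) = (m : G)⁻¹ * (t * z) * m := by group
        _ = (m : G)⁻¹ * (z * t) * m := by rw [h2]
        _ = (m : G)⁻¹ * z * m * ((m : G)⁻¹ * t * m) := by group
    calc (n : G) * a = (m : G)⁻¹ * t * m * (((m : G)⁻¹ * t * m)⁻¹ * n * a) := by group
      _ = (m : G)⁻¹ * t * m * a * (((m : G)⁻¹ * t * m)⁻¹ * n) := by
        rw [h1]; simp only [mul_assoc]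
      _ = a * n := by rw [h3]; group
  have hVuniq : ∀ b ∈ A, b ≠ 1 → (∀ n : ↥NA, h.perm n ∈ V → (n : G) * b = b * n) → b = a := by
    intro b hb hb1 hbc
    have h1 : (m : G) * b * (m : G)⁻¹ = z := huniq _ ((mem_normalizer_iff.1 m.2 b).1 hb)
      (fun h1 => hb1 (conj_eq_one_iff.1 h1)) (fun t ht => by
        have h2 := hbc (m⁻¹ * ⟨t, hTN ht⟩ * m) (by
          have h3 : (h.π m)⁻¹ * h.π ⟨t, hTN ht⟩ * h.π m ∈ V' :=
            hg _ (mem_map_of_mem _ ht)
          rw [perm, map_mul, map_mul, map_inv]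
          exact h3)
        push_cast at h2
        calc t * ((m : G) * b * (m : G)⁻¹) = m * ((m : G)⁻¹ * t * m * b) * (m : G)⁻¹ := by group
          _ = m * (b * ((m : G)⁻¹ * t * m)) * (m : G)⁻¹ := by rw [h2]
          _ = (m : G) * b * (m : G)⁻¹ * t := by group)
    rw [ha_def, ← h1]; group
  -- the stabiliser
  have hfix_mul : ∀ p q : ↥NA, (p : G) * a = a * p → (q : G) * a = a * q →
      ((p * q : ↥NA) : G) * a = a * (p * q : ↥NA) := fun p q hp hq =>
    ((show Commute (p : G) a from hp).mul_left hq).eq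
  have hfix_perm : ∀ p q : ↥NA, h.perm p = h.perm q → (q : G) * a = a * q → (p : G) * a = a * p := by
    intro p q hpq hq
    have hk : h.perm (p * q⁻¹) = 1 := by rw [perm_mul, perm_inv, hpq, mul_inv_cancel]
    have := hfix_mul _ q (h.centralises_of_perm_one hk haA) hq
    rwa [inv_mul_cancel_right] at this
  obtain ⟨c, hc⟩ := h.perm_lift gc
  have hcfix : (c : G) * a = a * c := by
    have h1 : (c : G) * a * (c : G)⁻¹ = a := hVuniq _ ((mem_normalizer_iff.1 c.2 a).1 haA)
      (fun h1 => ha1 (conj_eq_one_iff.1 h1)) fun n hn => by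
        have h2 := hVfix (c⁻¹ * n * c) (by
          rw [perm_mul, perm_mul, perm_inv, hc]
          obtain ⟨k1, k2, k3, k4⟩ := Masks.c₃_spec
          rcases hn with hn | hn | hn | hn <;> rw [hn] <;>
            (show _ = 1 ∨ _ = Masks.s₁ ∨ _ = Masks.s₂ ∨ _ = Masks.s₃) <;> decide +kernel)
        push_cast at h2
        calc (n : G) * ((c : G) * a * (c : G)⁻¹) = c * ((c : G)⁻¹ * n * c * a) * (c : G)⁻¹ := by group
          _ = c * (a * ((c : G)⁻¹ * n * c)) * (c : G)⁻¹ := by rw [h2]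
          _ = (c : G) * a * (c : G)⁻¹ * n := by group
    exact mul_inv_eq_iff_eq_mul.1 h1
  have hA4 : ∀ n : ↥NA, h.perm n 4 = 4 → (n : G) * a = a * n := by
    intro n hn
    obtain ⟨v, hv, hv'⟩ := Masks.stab_gen _ (h.perm_sign n) hn
    have hvV : v ∈ V := by simpa [V] using hv
    obtain ⟨w, hw⟩ := h.perm_lift (Perm.mem_alternatingGroup.1 (hVA hvV))
    have hwfix := hVfix w (hw ▸ hvV)
    rcases hv' with e | e | e
    · exact hfix_perm n w (e.trans hw.symm) hwfix
    · exact hfix_perm n (w * c) (by rw [perm_mul, hw, hc, e]) (hfix_mul _ _ hwfix hcfix)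
    · exact hfix_perm n (w * (c * c)) (by rw [perm_mul, perm_mul, hw, hc, e])
        (hfix_mul _ _ hwfix (hfix_mul _ _ hcfix hcfix))
  refine ⟨a, haA, ha1, fun n => ⟨fun hn => ?_, hA4 n⟩⟩
  by_contra hne
  obtain ⟨d, hd⟩ := h.perm_lift gf
  refine ha1 (h.trivial_fixed hd haA ?_)
  by_cases hd4 : h.perm d 4 = 4
  · exact hA4 d hd4
  obtain ⟨v, hv, hvj⟩ := Masks.reach (h.perm n 4) (h.perm d 4) hne hd4
  have hvV : v ∈ V := by simpa [V] using hv
  obtain ⟨w, hw⟩ := h.perm_lift (Perm.mem_alternatingGroup.1 (hVA hvV))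
  have hwn := hfix_mul _ _ (hVfix w (hw ▸ hvV)) hn
  have hrest := hA4 ((w * n)⁻¹ * d) (by
    rw [perm_mul, perm_inv, perm_mul, hw, Perm.mul_apply]
    refine Perm.inv_eq_iff_eq.2 ?_
    rw [Perm.mul_apply, hvj])
  have := hfix_mul _ _ hwn hrest
  rwa [mul_inv_cancel_left] at this

end Pre

/-- The labelling of `A` by bit masks. -/
structure Model (A : Subgroup G) extends Pre A where
  f : Fin 16 → G
  f_mem : ∀ m, f m ∈ A
  f_surj : ∀ a ∈ A, ∃ m, f m = a
  f_eq_one : ∀ m, f m = 1 → m = 0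
  f_zero : f 0 = 1
  f_mul : ∀ m k, f (m ^^^ k) = f m * f k
  f_conj : ∀ n : ↥(normalizer (A : Set G)),
    ∀ m, (n : G) * f m * (n : G)⁻¹ = f (Masks.act (toPre.perm n) m)

/-- The labelling exists. -/
theorem Pre.exists_model {A : Subgroup G} (h : Pre A) : Nonempty (Model A) := by
  obtain ⟨a, haA, ha1, hfix⟩ := h.exists_base
  obtain ⟨d, hd⟩ := h.perm_lift Masks.signs.2.2.2.2
  obtain ⟨c0, c1, c2, c3, c4, -, -⟩ := Masks.c₅_apply
  have hreach : ∀ i : Fin 5, ∃ n : ↥(normalizer (A : Set G)), h.perm n 4 = i := by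
    have hp : ∀ k : ℕ, h.perm (d ^ k) = Masks.c₅ ^ k := fun k => by
      simp only [Pre.perm, ← hd, map_pow, SubmonoidClass.coe_pow]
    have hex : ∀ i : Fin 5, ∃ k ∈ List.range 5, (Masks.c₅ ^ k) 4 = i := by decide +kernel
    intro i
    obtain ⟨k, -, hk⟩ := hex i
    exact ⟨d ^ k, by rw [hp, hk]⟩
  choose lift hlift using hreach
  let av : Fin 5 → G := fun i => (lift i : G) * a * (lift i : G)⁻¹
  have hav_mem : ∀ i, av i ∈ A := fun i => (mem_normalizer_iff.1 (lift i).2 a).1 haA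
  have hav : ∀ (n : ↥(normalizer (A : Set G))) (i : Fin 5),
      (n : G) * av i * (n : G)⁻¹ = av (h.perm n i) := by
    intro n i
    have hm : h.perm ((lift (h.perm n i))⁻¹ * (n * lift i)) 4 = 4 := by
      rw [Pre.perm_mul, Pre.perm_inv, Pre.perm_mul, Perm.mul_apply, Perm.mul_apply, hlift]
      exact Perm.inv_eq_iff_eq.2 (hlift _).symm
    have h1 := (hfix _).2 hm
    push_cast at h1
    calc (n : G) * av i * (n : G)⁻¹ = (lift (h.perm n i) : G) *
        (((lift (h.perm n i) : G)⁻¹ * (n * lift i)) * a) * ((n : G) * lift i)⁻¹ := by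
          simp only [av]; group
      _ = av (h.perm n i) := by rw [h1]; simp only [av]; group
  have hav1 : ∀ i, av i ≠ 1 := fun i h1 => ha1 (conj_eq_one_iff.1 h1)
  have hav_inj : ∀ i j, av i = av j → i = j := by
    intro i j he
    have h1 : (((lift i)⁻¹ * lift j : ↥(normalizer (A : Set G))) : G) * a =
        a * ((lift i)⁻¹ * lift j : ↥(normalizer (A : Set G))) := by
      push_cast
      calc (lift i : G)⁻¹ * lift j * a = (lift i : G)⁻¹ * av j * lift j := by simp only [av]; group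
        _ = (lift i : G)⁻¹ * av i * lift j := by rw [he]
        _ = a * ((lift i : G)⁻¹ * lift j) := by simp only [av]; group
    have h2 := (hfix _).1 h1
    rw [Pre.perm_mul, Pre.perm_inv, Perm.mul_apply, hlift, Perm.inv_eq_iff_eq, hlift] at h2
    exact h2.symm
  have hprod : av 0 * (av 1 * (av 2 * av 3)) = av 4 := by
    have hmem := mul_mem (hav_mem 0) (mul_mem (hav_mem 1) (mul_mem (hav_mem 2) (hav_mem 3)))
    have h1 : av 0 * (av 1 * (av 2 * av 3)) * av 4 = 1 := by
      refine h.trivial_fixed hd (mul_mem hmem (hav_mem 4)) (mul_inv_eq_iff_eq_mul.1 ?_)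
      have e : ∀ p q r s t : G, (d : G) * (p * (q * (r * s)) * t) * (d : G)⁻¹ =
          d * p * (d : G)⁻¹ * ((d * q * (d : G)⁻¹) * ((d * r * (d : G)⁻¹) * (d * s * (d : G)⁻¹))) *
            (d * t * (d : G)⁻¹) := fun p q r s t => by group
      rw [e, hav, hav, hav, hav, hav, hd, c0, c1, c2, c3, c4,
        h.comm (hav_mem 0) (mul_mem (hav_mem 1) (mul_mem (hav_mem 2) (hav_mem 3))),
        show av 1 * (av 2 * (av 3 * av 4)) * av 0 = av 1 * (av 2 * av 3) * (av 4 * av 0) by group,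
        h.comm (hav_mem 4) (hav_mem 0), mul_assoc (av 1 * (av 2 * av 3))]
    rw [eq_inv_of_mul_eq_one_left h1, h.inv_eq (hav_mem 4)]
  let sel : Bool → G → G := fun b x => if b then x else 1
  let F : Fin 16 → G := fun m => sel (Masks.bit m 0) (av 0) * (sel (Masks.bit m 1) (av 1) *
    (sel (Masks.bit m 2) (av 2) * sel (Masks.bit m 3) (av 3)))
  have hsel : ∀ b i, sel b (av i) ∈ A := fun b i => by
    simp only [sel]; split
    · exact hav_mem i
    · exact one_mem A
  have hsel2 : ∀ b b' i, sel (xor b b') (av i) = sel b (av i) * sel b' (av i) := by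
    intro b b' i
    cases b <;> cases b' <;> simp [sel, h.sq _ (hav_mem i)]
  have mm : ∀ p q r s : G, q ∈ A → r ∈ A → p * q * (r * s) = p * r * (q * s) := by
    intro p q r s hq hr
    rw [mul_assoc, ← mul_assoc q, h.comm hq hr, mul_assoc r, ← mul_assoc]
  have hFmul : ∀ m k, F (m ^^^ k) = F m * F k := by
    intro m k
    simp only [F, Masks.bit_xor, hsel2]
    rw [mm _ (sel _ (av 1) * _) _ _ (mul_mem (hsel _ 1) (mul_mem (hsel _ 2) (hsel _ 3))) (hsel _ 0),
      mm _ (sel _ (av 2) * _) _ _ (mul_mem (hsel _ 2) (hsel _ 3)) (hsel _ 1),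
      mm _ (sel _ (av 3)) _ _ (hsel _ 3) (hsel _ 2)]
  have hFzero : F 0 = 1 := by simp [F, Masks.bit_zero, sel]
  have hFpt : ∀ i, F (Masks.pt i) = av i := by
    intro i
    rcases Masks.pt_bits i with ⟨rfl, hb⟩ | ⟨hb, hi⟩
    · simp [F, hb, sel, hprod]
    · simp only [F]
      rw [hb 0, hb 1, hb 2, hb 3]
      fin_cases i <;> first | exact absurd rfl hi | simp [sel]
  have hFmem : ∀ m, F m ∈ A := fun m =>
    mul_mem (hsel _ 0) (mul_mem (hsel _ 1) (mul_mem (hsel _ 2) (hsel _ 3)))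
  have hFone : ∀ m, F m = 1 → m = 0 := by
    intro m hm
    rcases Masks.cover m with rfl | ⟨i, rfl⟩ | ⟨i, j, hij, rfl⟩
    · rfl
    · exact absurd (hFpt i ▸ hm) (hav1 i)
    · rw [hFmul, hFpt, hFpt] at hm
      exact absurd (hav_inj i j (by rw [eq_inv_of_mul_eq_one_left hm, h.inv_eq (hav_mem j)])) hij
  refine ⟨Model.mk h F hFmem ?_ hFone hFzero hFmul ?_⟩
  · let e : Fin 16 → ↥A := fun m => ⟨F m, hFmem m⟩
    have hinj : Function.Injective e := by
      intro m k he
      have he' : F m = F k := congrArg Subtype.val he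
      have h1 : F (m ^^^ k) = 1 := by rw [hFmul, he', h.sq _ (hFmem k)]
      have h2 : ∀ m k : Fin 16, m ^^^ k = 0 → m = k := by decide +kernel
      exact h2 _ _ (hFone _ h1)
    have hbij := (Nat.bijective_iff_injective_and_card e).2 ⟨hinj, by rw [Nat.card_fin, h.card]⟩
    intro a ha
    obtain ⟨m, hm⟩ := hbij.2 ⟨a, ha⟩
    exact ⟨m, congrArg Subtype.val hm⟩
  · intro n m
    have hpick : ∀ b i, (n : G) * sel b (av i) * (n : G)⁻¹ =
        F (Masks.pick b (Masks.pt (h.perm n i))) := by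
      intro b i
      cases b
      · simp [sel, Masks.pick, hFzero]
      · simp [sel, Masks.pick, hFpt, hav]
    show (n : G) * F m * (n : G)⁻¹ = F (Masks.act (h.perm n) m)
    rw [Masks.act, hFmul, hFmul, hFmul, ← hpick, ← hpick, ← hpick, ← hpick]
    simp only [F]
    group

end Cfsg.Agent.StronglyClosedFour
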